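import Mathlib
import Cfsg.Agent.F42.AllSys_m3
import Cfsg.Agent.FourTwo.Perf
import Cfsg.Agent.H172.SIBase
import Cfsg.Agent.S1054
import Cfsg.Agent.S2122
import Cfsg.Agent.ChevalleyStructure.FieldIso
import Cfsg.Agent.H379.TD.Elt
import Cfsg.Agent.H903.SylMeet
import Cfsg.Agent.S2129
import Cfsg.Agent.S1071
import Cfsg.Agent.FastGrp
import Cfsg.Agent.Prune
set_option linter.all false

-- part: H134/Syl/F4TwoMain
section
prune_inst 0x7f00000000000000000000000000000000000000000000000000000000000000000000000000000000000000000000000000000000000000000000000000000000000000000000000000000000000000003fffffffffffffffffffffffffffbeffbdffffffff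
set_option linter.all false
open scoped Cfsg.Agent.FastGrp

-- part: H134/Syl/Chain
section
/-!
# Lists of the elements of a subgroup generated by a chain of elements of order 3 (helper134)

`Lst S L` : `L` lists the elements of `closure S` without repetition; `Lst.step` : one more generator of order 3.
-/

set_option autoImplicit false

namespace Cfsg.Agent.H134.Syl

open Subgroup

variable {G : Type*} [Group G]

/-- `L` lists the elements of the subgroup generated by `S`, without repetition -/
structure Lst (S : Set G) (L : List G) : Prop where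
  mem : ∀ y, y ∈ closure S ↔ y ∈ L
  nodup : L.Nodup

theorem Lst.nil : Lst (∅ : Set G) [1] where
  mem y := by simp
  nodup := List.nodup_singleton _

theorem Lst.card {S : Set G} {L : List G} (h : Lst S L) : Nat.card ↥(closure S) = L.length := by
  classical
  have e : ↥(closure S) ≃ {y // y ∈ L.toFinset} := Equiv.subtypeEquivRight fun y => by rw [h.mem, List.mem_toFinset]
  rw [← List.toFinset_card_of_nodup h.nodup, Nat.card_congr e, Nat.card_eq_fintype_card, Fintype.card_coe]

theorem conj_mem_of_gen {S : Set G} {g : G} (hn : ∀ s ∈ S, g * s * g⁻¹ ∈ closure S) {y : G} (hy : y ∈ closure S) :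
    g * y * g⁻¹ ∈ closure S := by
  induction hy using closure_induction with
  | mem s hs => exact hn s hs
  | one => simp [one_mem]
  | mul a b _ _ ha hb =>
    have : g * (a * b) * g⁻¹ = (g * a * g⁻¹) * (g * b * g⁻¹) := by group
    rw [this]
    exact mul_mem ha hb
  | inv a _ ha =>
    have : g * a⁻¹ * g⁻¹ = (g * a * g⁻¹)⁻¹ := by group
    rw [this]
    exact inv_mem ha

theorem pow_conj_mem {S : Set G} {g : G} (hn : ∀ s ∈ S, g * s * g⁻¹ ∈ closure S) (i : ℕ) {y : G}
    (hy : y ∈ closure S) : g ^ i * y * (g ^ i)⁻¹ ∈ closure S := by
  induction i with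
  | zero => simpa using hy
  | succ i ih =>
    have : g ^ (i + 1) * y * (g ^ (i + 1))⁻¹ = g * (g ^ i * y * (g ^ i)⁻¹) * g⁻¹ := by
      rw [pow_succ']; group
    rw [this]
    exact conj_mem_of_gen hn ih

/-- the elements `g ^ i h` -/
def ext (g : G) (L : List G) : List G := L ++ (L.map (fun y => g * y) ++ L.map fun y => g * (g * y))

theorem mem_step {S : Set G} {L : List G} (h : Lst S L) {g : G} (h3 : g * (g * g) = 1)
    (hn : ∀ s ∈ S, g * s * g⁻¹ ∈ closure S) (y : G) : y ∈ closure (insert g S) ↔ y ∈ ext g L := by
  have h3' : g ^ 3 = 1 := by rw [pow_succ, pow_two, mul_assoc]; exact h3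
  have hinv : g⁻¹ = g ^ 2 := by
    rw [inv_eq_iff_mul_eq_one, ← pow_succ', h3']
  have hconj' : ∀ (i : ℕ) {y : G}, y ∈ closure S → (g ^ i)⁻¹ * y * g ^ i ∈ closure S := by
    intro i y hy
    have e : (g ^ i)⁻¹ = g ^ (2 * i) := by rw [← inv_pow, hinv, ← pow_mul]
    have h4 := pow_conj_mem hn (2 * i) hy
    have e2 : (g ^ (2 * i))⁻¹ = g ^ i := by rw [← e, inv_inv]
    rw [e2, ← e] at h4
    exact h4
  let T : Subgroup G :=
    { carrier := {y | ∃ i : ℕ, ∃ z ∈ closure S, y = g ^ i * z}
      one_mem' := ⟨0, 1, one_mem _, by simp⟩
      mul_mem' := by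
        rintro _ _ ⟨i, z, hz, rfl⟩ ⟨j, w, hw, rfl⟩
        refine ⟨i + j, ((g ^ j)⁻¹ * z * g ^ j) * w, mul_mem (hconj' j hz) hw, ?_⟩
        rw [pow_add]
        group
      inv_mem' := by
        rintro _ ⟨i, z, hz, rfl⟩
        refine ⟨2 * i, g ^ i * z⁻¹ * (g ^ i)⁻¹, pow_conj_mem hn i (inv_mem hz), ?_⟩
        have e : g ^ (2 * i) = (g ^ i)⁻¹ := by rw [← inv_pow, hinv, ← pow_mul]
        rw [e]
        group }
  have hT : closure (insert g S) ≤ T := by
    rw [closure_le]
    intro y hy
    rcases Set.mem_insert_iff.1 hy with rfl | hy
    · exact ⟨1, 1, one_mem _, by simp⟩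
    · exact ⟨0, y, subset_closure hy, by simp⟩
  have hle : closure S ≤ closure (insert g S) := closure_mono (Set.subset_insert _ _)
  have hg : g ∈ closure (insert g S) := subset_closure (Set.mem_insert _ _)
  constructor
  · intro hy
    obtain ⟨i, z, hz, rfl⟩ := hT hy
    have hz' := (h.mem z).1 hz
    have hi : g ^ i = g ^ (i % 3) := by
      conv_lhs => rw [← Nat.div_add_mod i 3, pow_add, pow_mul, h3', one_pow, one_mul]
    rw [hi]
    have hlt := Nat.mod_lt i (show 0 < 3 by norm_num)
    unfold ext
    rw [List.mem_append, List.mem_append, List.mem_map, List.mem_map]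
    interval_cases i % 3
    · left; simpa using hz'
    · right; left; exact ⟨z, hz', by rw [pow_one]⟩
    · right; right; exact ⟨z, hz', by rw [pow_two, mul_assoc]⟩
  · intro hy
    unfold ext at hy
    rw [List.mem_append, List.mem_append, List.mem_map, List.mem_map] at hy
    rcases hy with hy | ⟨z, hz, rfl⟩ | ⟨z, hz, rfl⟩
    · exact hle ((h.mem y).2 hy)
    · exact mul_mem hg (hle ((h.mem z).2 hz))
    · exact mul_mem hg (mul_mem hg (hle ((h.mem z).2 hz)))

theorem Lst.step {S : Set G} {L : List G} (h : Lst S L) {g : G} (h3 : g * (g * g) = 1)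
    (hn : ∀ s ∈ S, g * s * g⁻¹ ∈ closure S) (hg : g ∉ L) : Lst (insert g S) (ext g L) where
  mem := mem_step h h3 hn
  nodup := by
    have hgS : g ∉ closure S := fun h4 => hg ((h.mem g).1 h4)
    have key : ∀ a ∈ L, ∀ b ∈ L, a ≠ g * b := by
      intro a ha b hb e
      apply hgS
      have : g = a * b⁻¹ := by rw [e]; group
      rw [this]
      exact mul_mem ((h.mem a).2 ha) (inv_mem ((h.mem b).2 hb))
    have key2 : ∀ a ∈ L, ∀ b ∈ L, a ≠ g * (g * b) := by
      intro a ha b hb e
      apply hgS
      have h4 : g⁻¹ = g * g := by rw [inv_eq_iff_mul_eq_one]; exact h3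
      have : g = (a * b⁻¹)⁻¹ := by
        rw [e]
        have : g * (g * b) * b⁻¹ = g * g := by group
        rw [this, ← h4, inv_inv]
      rw [this]
      exact inv_mem (mul_mem ((h.mem a).2 ha) (inv_mem ((h.mem b).2 hb)))
    unfold ext
    refine List.Nodup.append h.nodup (List.Nodup.append ?_ ?_ ?_) ?_
    · exact h.nodup.map fun a b e => mul_left_cancel e
    · exact h.nodup.map fun a b e => mul_left_cancel (mul_left_cancel e)
    · intro y hy hy'
      obtain ⟨a, ha, rfl⟩ := List.mem_map.1 hy
      obtain ⟨b, hb, e⟩ := List.mem_map.1 hy'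
      exact key a ha b hb (mul_left_cancel e).symm
    · intro y hy hy'
      rcases List.mem_append.1 hy' with h1 | h1
      · obtain ⟨b, hb, e⟩ := List.mem_map.1 h1
        exact key y hy b hb e.symm
      · obtain ⟨b, hb, e⟩ := List.mem_map.1 h1
        exact key2 y hy b hb e.symm

end Cfsg.Agent.H134.Syl
end

-- part: H134/Syl/F4Two
section
/-!
# A Sylow 3-subgroup of `F₄(2)` which meets a conjugate trivially (helper134)

`W` : words for the 729 elements of a Sylow 3-subgroup `R` of `LL = F₄(2)`; `x₀ = x 38 * x 0` satisfies
`R ∩ x₀ R x₀⁻¹ = 1` : the rows 42, 43 of the matrices of `r x₀` (list `K1`) and `x₀ r'` (list `K2`) are different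
unless `r = 1`.
-/

set_option autoImplicit false
set_option maxRecDepth 100000
set_option linter.style.maxHeartbeats false

namespace Cfsg.Agent.H134.Syl.F4

open Cfsg.Lie Cfsg.Agent.ChevalleyStructure.TwF4.Bits Cfsg.Agent.ChevalleyStructure.TwF4.Tables
  Cfsg.Agent.ChevalleyStructure.TwF4.Rel
open Cfsg.Agent.FourTwo.RankInv
open Cfsg.Agent.FourTwo.Base hiding bar bar_lt x_mul_self
open Cfsg.Agent.FourTwo.ClassSep Cfsg.Agent.LThreeFfour.Mat
open Subgroup

/-! ### generalities -/

/-- rows 42 and 43 -/
def key (M : ℕ) : ℕ := Nat.mod (Nat.shiftRight M 2184) 20282409603651670423947251286016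

theorem testBit_of_sem {M M' : ℕ} (h : sem pos (ZMod 2) M = sem pos (ZMod 2) M') {n : ℕ} (hn : n < 2704) :
    M.testBit n = M'.testBit n := by
  obtain ⟨i, hi⟩ := posOK.surj (n / 52) (by omega)
  obtain ⟨j, hj⟩ := posOK.surj (n % 52) (Nat.mod_lt _ (by norm_num))
  have h1 := congrFun (congrFun h i) j
  rw [sem_apply, sem_apply, hi, hj] at h1
  have h2 : 52 * (n / 52) + n % 52 = n := Nat.div_add_mod n 52
  rw [h2] at h1
  cases h3 : M.testBit n <;> cases h4 : M'.testBit n <;> simp_all

theorem key_of_sem {M M' : ℕ} (h : sem pos (ZMod 2) M = sem pos (ZMod 2) M') : key M = key M' := by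
  have e : (20282409603651670423947251286016 : ℕ) = 2 ^ 104 := by norm_num
  have e1 : ∀ M, key M = (M >>> 2184) % 2 ^ 104 := fun M => by rw [← e]; rfl
  rw [e1, e1]
  apply Nat.eq_of_testBit_eq
  intro i
  rw [Nat.testBit_mod_two_pow, Nat.testBit_mod_two_pow, Nat.testBit_shiftRight, Nat.testBit_shiftRight]
  by_cases hi : i < 104
  · rw [testBit_of_sem h (by omega)]
  · simp [hi]

theorem key_wd {w w' : List ℕ} (hw : (w.all fun r => decide (r < 48)) = true)
    (hw' : (w'.all fun r => decide (r < 48)) = true) (h : wd w = wd w') : key (wordM w) = key (wordM w') := by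
  apply key_of_sem
  rw [← mt_wd w hw, ← mt_wd w' hw', h]

/-- equality of words -/
def eqM (w w' : List ℕ) : Bool := Nat.beq (wordM w) (wordM w')

theorem wd_eq_of {w w' : List ℕ} (hw : (w.all fun r => decide (r < 48)) = true)
    (hw' : (w'.all fun r => decide (r < 48)) = true) (h : eqM w w' = true) : wd w = wd w' := by
  apply mt_inj
  rw [mt_wd w hw, mt_wd w' hw', Nat.eq_of_beq_eq_true h]

/-- all letters are roots -/
def okL (W : List (List ℕ)) : Bool := W.all fun w => w.all fun r => decide (r < 48)

theorem okL_mem {W : List (List ℕ)} (h : okL W = true) {w : List ℕ} (hw : w ∈ W) :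
    (w.all fun r => decide (r < 48)) = true := by
  unfold okL at h
  rw [List.all_eq_true] at h
  exact h w hw

/-- words for `ext` -/
def extW (g : List ℕ) (W : List (List ℕ)) : List (List ℕ) :=
  W ++ (W.map (fun w => g ++ w) ++ W.map fun w => g ++ (g ++ w))

theorem map_extW (g : List ℕ) (W : List (List ℕ)) : (extW g W).map wd = ext (wd g) (W.map wd) := by
  have h1 : (W.map (fun w => g ++ w)).map wd = (W.map wd).map (fun y => wd g * y) := by
    rw [List.map_map, List.map_map]
    exact List.map_congr_left fun w _ => wd_append g w
  have h2 : (W.map (fun w => g ++ (g ++ w))).map wd = (W.map wd).map (fun y => wd g * (wd g * y)) := by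
    rw [List.map_map, List.map_map]
    exact List.map_congr_left fun w _ => by
      show wd (g ++ (g ++ w)) = wd g * (wd g * wd w)
      rw [wd_append, wd_append]
  unfold extW ext
  rw [List.map_append, List.map_append, h1, h2]

/-- the element `g` is not in the list -/
def nin (g : List ℕ) (W : List (List ℕ)) : Bool := W.all fun w => !(Nat.beq (key (wordM g)) (key (wordM w)))

theorem not_mem_of {g : List ℕ} {W : List (List ℕ)} (hg : (g.all fun r => decide (r < 48)) = true)
    (hW : okL W = true) (h : nin g W = true) : wd g ∉ W.map wd := by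
  intro h1
  obtain ⟨w, hw, e⟩ := List.mem_map.1 h1
  unfold nin at h
  rw [List.all_eq_true] at h
  have h2 := h w hw
  have h3 := key_wd hg (okL_mem hW hw) e.symm
  rw [h3] at h2
  simp at h2

/-! ### the generators -/

def g1 : List ℕ := [24, 23]
def g2 : List ℕ := [32, 15]
def g3 : List ℕ := [43, 4]
def g4 : List ℕ := [45, 2]
def g5 : List ℕ := [27, 20, 27, 33, 14, 33]
def g6 : List ℕ := [47, 21, 16, 5, 6, 17, 22, 46]

def W1 : List (List ℕ) := extW g1 [[]]
def W2 : List (List ℕ) := extW g2 W1
def W3 : List (List ℕ) := extW g3 W2
def W4 : List (List ℕ) := extW g4 W3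
def W5 : List (List ℕ) := extW g5 W4
def W6 : List (List ℕ) := extW g6 W5

def W7 : List (List ℕ) := W6.tail

private theorem _root_.Cfsg.Agent.KO3be2232.e0.{ku, kv} {α : Type kv} {M : List α → Sort ku} (φ : ∀ l, M l) {z : M List.nil} {s : ∀ a l, M l → M (List.cons a l)} (h0 : φ List.nil = z) (hs : ∀ a l, φ (List.cons a l) = s a l (φ l)) (l : List α) : φ l = @List.rec α M z s l := List.rec h0 (fun a l ih => (hs a l).trans (congrArg (s a l) ih)) l
private noncomputable def _root_.Cfsg.Agent.KO3be2232.k1.{ku0} : type_of% @List.append.{ku0} := @(fun x0 x1 x2 => @List.rec.{(ku0+1), ku0} @x0 @(fun x3 => (@List.{ku0} @x0) → @List.{ku0} @x0) @(fun x3 => @x3) @(fun x3 x4 x5 x6 => @x3 :: (@x5 @x6)) @x1 @x2)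
private theorem _root_.Cfsg.Agent.KO3be2232.e1.{ku0} : @List.append.{ku0} = @_root_.Cfsg.Agent.KO3be2232.k1.{ku0} := by delta _root_.Cfsg.Agent.KO3be2232.k1; funext a0 a1 a2; refine (congrFun (_root_.Cfsg.Agent.KO3be2232.e0 (fun a1 a2 => @List.append.{ku0} a0 a1 a2) ?_ (fun c0 c1 => ?_) a1) a2 :) <;> (rfl')
private noncomputable def _root_.Cfsg.Agent.KO3be2232.k2.{ku0, ku1} : type_of% @List.map.{ku0, ku1} := @(fun x0 x1 x2 x3 => @List.rec.{(ku1+1), ku0} @x0 @(fun x4 => @List.{ku1} @x1) [] @(fun x4 x5 x6 => (@x2 @x4) :: @x6) @x3)
private theorem _root_.Cfsg.Agent.KO3be2232.e2.{ku0, ku1} : @List.map.{ku0, ku1} = @_root_.Cfsg.Agent.KO3be2232.k2.{ku0, ku1} := by delta _root_.Cfsg.Agent.KO3be2232.k2; funext a0 a1 a2 a3; refine (_root_.Cfsg.Agent.KO3be2232.e0 (fun a3 => @List.map.{ku0, ku1} a0 a1 a2 a3) ?_ (fun c0 c1 => ?_) a3 :) <;> (rfl')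
private noncomputable def _root_.Cfsg.Agent.KO3be2232.k3 : (by first | exact type_of% @Cfsg.Agent.H134.Syl.F4.extW | exact Unit : Sort _) := by first | (refine @Subtype.val _ (fun g => @Cfsg.Agent.H134.Syl.F4.extW = @g) (@Subtype.mk _ _ (@(fun x0 x1 => @Cfsg.Agent.KO3be2232.k1.{0} _ @x1 (@Cfsg.Agent.KO3be2232.k1.{0} _ (@Cfsg.Agent.KO3be2232.k2.{0, 0} _ _ @(fun x2 => @Cfsg.Agent.KO3be2232.k1.{0} _ @x0 @x2) @x1) (@Cfsg.Agent.KO3be2232.k2.{0, 0} _ _ @(fun x2 => @Cfsg.Agent.KO3be2232.k1.{0} _ @x0 (@Cfsg.Agent.KO3be2232.k1.{0} _ @x0 @x2)) @x1)))) ?_); rewrite [← Cfsg.Agent.KO3be2232.e2.{0, 0}, ← Cfsg.Agent.KO3be2232.e1.{0}]; rfl') | exact @Cfsg.Agent.H134.Syl.F4.extW | exact ()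
private theorem _root_.Cfsg.Agent.KO3be2232.e3 : (by first | exact @Cfsg.Agent.H134.Syl.F4.extW = @_root_.Cfsg.Agent.KO3be2232.k3 | exact True : Prop) := by first | (delta _root_.Cfsg.Agent.KO3be2232.k3; exact @Subtype.property _ (fun g => @Cfsg.Agent.H134.Syl.F4.extW = @g) _) | rfl | trivial
private noncomputable def _root_.Cfsg.Agent.KO3be2232.oLe.{ku} (α : Sort ku) (a b : Nat) (f t : α) : α := @Decidable.rec (@LE.le Nat instLENat a b) (fun _ => α) (fun _ => f) (fun _ => t) (Nat.decLe a b)
private noncomputable def _root_.Cfsg.Agent.KO3be2232.k4.{ku} (α : Sort ku) (a b : Nat) (f t : α) : α := @Bool.rec (fun _ => α) f t (Nat.ble a b)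
private theorem _root_.Cfsg.Agent.KO3be2232.e4.{ku} : @_root_.Cfsg.Agent.KO3be2232.oLe.{ku} = @_root_.Cfsg.Agent.KO3be2232.k4.{ku} := funext fun α => funext fun a => funext fun b => funext fun f => funext fun t => by delta _root_.Cfsg.Agent.KO3be2232.oLe _root_.Cfsg.Agent.KO3be2232.k4; cases h : Nat.ble a b <;> cases Nat.decLe a b <;> rename_i g <;> first | rfl | exact absurd (h.symm.trans (Nat.ble_eq_true_of_le g)) Bool.false_ne_true | exact absurd (Nat.le_of_ble_eq_true h) g
private noncomputable def _root_.Cfsg.Agent.KO3be2232.k5.{ku0} : type_of% @List.all.{ku0} := @(fun x0 x1 x2 => @List.rec.{(ku0+1), ku0} @x0 @(fun x3 => (@x0 → @Bool) → @Bool) @(fun x3 => @Bool.true) @(fun x3 x4 x5 x6 => @Bool.rec.{1} @(fun x7 => @Bool) @Bool.false (@x5 @x6) (@x6 @x3)) @x1 @x2)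
private theorem _root_.Cfsg.Agent.KO3be2232.e5.{ku0} : @List.all.{ku0} = @_root_.Cfsg.Agent.KO3be2232.k5.{ku0} := by delta _root_.Cfsg.Agent.KO3be2232.k5; funext a0 a1 a2; refine (congrFun (_root_.Cfsg.Agent.KO3be2232.e0 (fun a1 a2 => @List.all.{ku0} a0 a1 a2) ?_ (fun c0 c1 => ?_) a1) a2 :) <;> (rfl')
private noncomputable def _root_.Cfsg.Agent.KO3be2232.k6 : (by first | exact type_of% @Cfsg.Agent.H134.Syl.F4.okL | exact Unit : Sort _) := by first | (refine @Subtype.val _ (fun g => @Cfsg.Agent.H134.Syl.F4.okL = @g) (@Subtype.mk _ _ (@(fun x0 => @Cfsg.Agent.KO3be2232.k5.{0} _ @x0 @(fun x1 => @Cfsg.Agent.KO3be2232.k5.{0} _ @x1 @(fun x2 => @Cfsg.Agent.KO3be2232.k4.{1} @Bool (@Nat.succ @x2) (nat_lit 48) @Bool.false @Bool.true)))) ?_); rewrite [← Cfsg.Agent.KO3be2232.e4.{1}, ← Cfsg.Agent.KO3be2232.e5.{0}]; rfl') | exact @Cfsg.Agent.H134.Syl.F4.okL | exact ()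
private theorem _root_.Cfsg.Agent.KO3be2232.e6 : (by first | exact @Cfsg.Agent.H134.Syl.F4.okL = @_root_.Cfsg.Agent.KO3be2232.k6 | exact True : Prop) := by first | (delta _root_.Cfsg.Agent.KO3be2232.k6; exact @Subtype.property _ (fun g => @Cfsg.Agent.H134.Syl.F4.okL = @g) _) | rfl | trivial

theorem ok6 : okL W6 = true := by (first | (delta Cfsg.Agent.H134.Syl.F4.W6 Cfsg.Agent.H134.Syl.F4.W5 Cfsg.Agent.H134.Syl.F4.W4 Cfsg.Agent.H134.Syl.F4.W3 Cfsg.Agent.H134.Syl.F4.W2 Cfsg.Agent.H134.Syl.F4.W1; rewrite [Cfsg.Agent.KO3be2232.e6, Cfsg.Agent.KO3be2232.e3]; decide +kernel) | decide +kernel)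

/-- the values of `f` on a list -/
def chk (f : List ℕ → ℕ) : List (List ℕ) → List ℕ → Bool
  | [], [] => true
  | w :: W, k :: K => Nat.beq (f w) k && chk f W K
  | _, _ => false

theorem chk_mem {f : List ℕ → ℕ} : ∀ {W : List (List ℕ)} {K : List ℕ}, chk f W K = true → ∀ w ∈ W, f w ∈ K
  | [], [], _, _, hw => by simp at hw
  | w :: W, k :: K, h, v, hv => by
    have h1 : Nat.beq (f w) k = true ∧ chk f W K = true := by simpa [chk] using h
    rcases List.mem_cons.1 hv with rfl | hv
    · rw [Nat.eq_of_beq_eq_true h1.1]
      exact List.mem_cons_self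
    · exact List.mem_cons_of_mem _ (chk_mem h1.2 v hv)
  | [], _ :: _, h, _, _ => by simp [chk] at h
  | _ :: _, [], h, _, _ => by simp [chk] at h

/-- the conjugating element -/
def x0 : List ℕ := [38, 0]

def f1 (w : List ℕ) : ℕ := key (wordM (w ++ x0))
def f2 (w : List ℕ) : ℕ := key (wordM (x0 ++ w))

def K1 : List ℕ :=
  [39616499108772526154185703424, 39616499108774791148138930190, 634444274856126138749399605262,
  634444274856125001854510694400, 634444274856127266848463921166, 674060773964897536804520992782,
  674060773964896399909632081920, 674060773964898664903585308686, 309486192721073789303005198,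
  309486192719936894414094336, 309486192722201888367321102, 10161011842472958391830731300878,
  10161011842472957254935842390016, 10161011842472959519929795616782, 10161321328665677200626081079310,
  10161321328665676063731192168448, 10161321328665678328725145395214, 39925985301492471844424392718,
  39925985301491334949535481856, 39925985301493599943488708622, 10795456117329082265586177679374,
  10795456117329081128691288768512, 10795456117329083393685241995278, 10835382102630572472436648845326,
  10835382102630571335541759934464, 10835382102630573600535713161230, 39616499108771398056195145792,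
  39616499108771406851214417920, 39616499108771406852288176192, 634444274856123873756520136768,
  634444274856123882551539408896, 634444274856123882552613167168, 674060773964895271811641524288,
  674060773964895280606660796416, 674060773964895280607734554688, 309486192718808796423536704,
  309486192718817591442808832, 309486192718817592516567104, 10161011842472956126837851832384,
  10161011842472956135632871104512, 10161011842472956135633944862784, 10161321328665674935633201610816,
  10161321328665674944428220882944, 10161321328665674944429294641216, 39925985301490206851544924224,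
  39925985301490215646564196352, 39925985301490215647637954624, 10795456117329080000593298210880,
  10795456117329080009388317483008, 10795456117329080009389391241280, 10835382102630570207443769376832,
  10835382102630570216238788648960, 10835382102630570216239862407232, 39616499108773663050148372558,
  39616499108772534950278733824, 39616499108774782353119658062, 634444274856126138750473363534,
  634444274856125010650603724800, 634444274856127258053444649038, 674060773964897536805594751054,
  674060773964896408705725112320, 674060773964898656108566036558, 309486192721073790376763470,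
  309486192719945690507124736, 309486192722193093348048974, 10161011842472958391831805059150,
  10161011842472957263731935420416, 10161011842472959511134776344654, 10161321328665677200627154837582,
  10161321328665676072527285198848, 10161321328665678319930126123086, 39925985301492471845498150990,
  39925985301491343745628512256, 39925985301493591148469436494, 10795456117329082265587251437646,
  10795456117329081137487381798912, 10795456117329083384890222723150, 10835382102630572472437722603598,
  10835382102630571344337852964864, 10835382102630573591740693889102, 1270126480306800162055091519488,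
  1270126480306800162050796421120, 1270126480306800162059386486784, 1270126480306800163146021472256,
  1270126480306800443521482358784, 1270126480306800444621002377216, 1270126480306800163154611537920,
  1270126480306800443525777326080, 1270126480306800444633887410176, 79237834068395207225208078336,
  79237834068395207220912979968, 79237834068395207229503045632, 79237834068395208316138031104,
  79237834068395488691598917632, 79237834068395489791118936064, 79237834068395208324728096768,
  79237834068395488695893884928, 79237834068395489804003969024, 1349364314375195369271709532160,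
  1349364314375195369267414433792, 1349364314375195369276004499456, 1349364314375195370362639484928,
  1349364314375195650738100371456, 1349364314375195651837620389888, 1349364314375195370371229550592,
  1349364314375195650742395338752, 1349364314375195651850505422848, 75557863725922913484800, 75557863725918618386432,
  75557863725927208452096, 75557863727013843437568, 75557864007389304324096, 75557864008488824342528,
  75557863727022433503232, 75557864007393599291392, 75557864008501709375488, 38685626804128894484086784,
  38685626804128890188988416, 38685626804128898779054080, 38685626804129985414039552, 38685626804410360874926080,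
  38685626804411460394944512, 38685626804129994004105216, 38685626804410365169893376, 38685626804411473279977472,
  38761184667854808807505920, 38761184667854804512407552, 38761184667854813102473216, 38761184667855899737458688,
  38761184668136275198345216, 38761184668137374718363648, 38761184667855908327524352, 38761184668136279493312512,
  38761184668137387603396608, 1270126555864663887969414938624, 1270126555864663887965119840256,
  1270126555864663887973709905920, 1270126555864663889060344891392, 1270126555864664169435805777920,
  1270126555864664170535325796352, 1270126555864663889068934957056, 1270126555864664169440100745216,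
  1270126555864664170548210829312, 79276519695199336111102099456, 79276519695199336106807001088,
  79276519695199336115397066752, 79276519695199337202032052224, 79276519695199617577492938752,
  79276519695199618677012957184, 79276519695199337210622117888, 79276519695199617581787906048,
  79276519695199618689897990144, 1349403075559863224071926972416, 1349403075559863224067631874048,
  1349403075559863224076221939712, 1349403075559863225162856925184, 1349403075559863505538317811712,
  1349403075559863506637837830144, 1349403075559863225171446990848, 1349403075559863505542612779008,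
  1349403075559863506650722863104, 79247505327378172759867654144, 79247505327378172210095063040,
  79247505327378173309623468032, 1268888559156980714349711589376, 1268888559156980713799938998272,
  1268888559156980714899467403264, 1348136064484358886010050838528, 1348136064484358885460278247424,
  1348136064484358886559806652416, 79247505327378171668929249408, 79247505327378189252525326336,
  79247505327378189261115326592, 1268888559156980713258773184640, 1268888559156980730842369261568,
  1268888559156980730850959261824, 1348136064484358884919112433792, 1348136064484358902502708510720,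
  1348136064484358902511298510976, 79247505327378172768457654400, 79247505327378189802281140224,
  79247505327378190910399545472, 1268888559156980714358301589632, 1268888559156980731392125075456,
  1268888559156980732500243480704, 1348136064484358886018640838784, 1348136064484358903052464324608,
  1348136064484358904160582729856, 590295811458234056704, 590295810908461465600, 590295812007989870592,
  4951760166364894235979677696, 4951760166364893686207086592, 4951760166364894785735491584,
  4951760756660704594685329408, 4951760756660704044912738304, 4951760756660705144441143296, 590295810367295651968,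
  590295827950891728896, 590295827959481729152, 4951760166364893145041272960, 4951760166364910728637349888,
  4951760166364910737227350144, 4951760756660703503746924672, 4951760756660721087343001600,
  4951760756660721095933001856, 590295811466824056960, 590295828500647542784, 590295829608765948032,
  4951760166364894244569677952, 4951760166364911278393163776, 4951760166364912386511569024,
  4951760756660704603275329664, 4951760756660721637098815488, 4951760756660722745217220736,
  79247505917673983118573305856, 79247505917673982568800714752, 79247505917673983668329119744,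
  1273840319323345607486162862080, 1273840319323345606936390270976, 1273840319323345608035918675968,
  1353087825241019589505207762944, 1353087825241019588955435171840, 1353087825241019590054963576832,
  79247505917673982027634901120, 79247505917673999611230978048, 79247505917673999619820978304,
  1273840319323345606395224457344, 1273840319323345623978820534272, 1273840319323345623987410534528,
  1353087825241019588414269358208, 1353087825241019605997865435136, 1353087825241019606006455435392,
  79247505917673983127163306112, 79247505917674000160986791936, 79247505917674001269105197184,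
  1273840319323345607494752862336, 1273840319323345624528576348160, 1273840319323345625636694753408,
  1353087825241019589513797763200, 1353087825241019606547621249024, 1353087825241019607655739654272,
  10795765603503310563354793476622, 5754879203810334866122481091150, 15915891046264798084790480028224,
  674060773983442231971773681686, 15875969896685076847483978534998, 5714958054230669928209636675672,
  39925985320037299158695285270, 15241835108021671914670900138582, 5080823265567264995396558279256,
  39925985320037167011677081622, 15241835108021671782523881934934, 5080823265567264863249540075608,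
  10795765603503308298360303391254, 5754879203810332601127991005782, 15915891046264800332191710335576,
  674060773983444629113281970702, 15875969896685079244625486824014, 5714958054230667812955424571968,
  674060773983442364118791885334, 15875969896685076979630996738646, 5714958054230670060356654879320,
  39925985320039564153185370638, 15241835108021674179665390223950, 5080823265567262747995327971904,
  10795765603503308166213285187606, 5754879203810332468980972802134, 15915891046264800200044692131928,
  5754879203810333738023685210688, 15915891046264800340987266466318, 10795765603503309435256802918990,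
  15875969896685080231780903047256, 5714958054230667672010702721046, 674060773983441103873783124054,
  15241835108021675298967824650840, 5080823265567262739197624324630, 39925985320036171060704727638,
  15241835108021675166820806447192, 5080823265567262607050606120982, 39925985320036038913686523990,
  5754879203810335985424915518040, 15915891046264798075992776380950, 10795765603503307170262312833622,
  15875969896685078116526690943552, 5714958054230670069152211010062, 674060773983443501015291413070,
  15875969896685080363927921250904, 5714958054230667804157720924694, 674060773983441236020801327702,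
  15241835108021673051566594343488, 5080823265567265004192114409998, 39925985320038436055194813006,
  5754879203810335853277897314392, 15915891046264797943845758177302, 10795765603503307038115294629974,
  15915891046264799212889275908686, 10795765603503308307158007038528, 5754879203810335994220471648782,
  5714958054230666543912712163414, 674060773983444488170707636312, 15875969896685077975581969092630,
  5080823265567261611099633766998, 39925985320039555357629239896, 15241835108021673042768890696214,
  5080823265567261478952615563350, 39925985320039423210611036248, 15241835108021672910621872492566,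
  15915891046264796947894785823318, 10795765603503310554559237345880, 5754879203810333729225981563414,
  5714958054230668941054220452430, 674060773983442372916495532608, 15875969896685080372723477381646,
  5714958054230666676059730367062, 674060773983444620317725839960, 15875969896685078107728987296278,
  5080823265567263876094123852366, 39925985320037307956398932544, 15241835108021675307763380781582,
  15915891046264796815747767619670, 10795765603503310422412219142232, 5754879203810333597078963359766,
  1346927214960477762755517120512, 1351859669502364875518854203392, 84247736601193302506543810560,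
  1351859669502365156989531621376, 84247736601193019940641341440, 1346927214960477763850742171648,
  84247736601193021035866392576, 1346927214960478045321419589632, 1351859669502364874423629152256,
  81713733627304170910061297792, 86723559421646619940579575936, 1354335455724478513671674267776,
  86723559421646901428436863104, 1354335455724478231088591929472, 81713733627304172005286348928,
  1354335455724478232183816980608, 81713733627304453493143636096, 86723559421646618845354524800,
  2475975116772988127337939072, 7485800911115437157856217216, 1275097697213946767938997487744,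
  7485800911115155695760083072, 1275097697213947048305868570752, 2475975116772989222562990208,
  1275097697213947049401093621888, 2475975116772707760466856064, 7485800911115436062631166080,
  2475975116772689607766704256, 7485800911115138638284982400, 1275097697213947032369379674240,
  7485800911115420126142269568, 1275097697213946749786297335936, 2475975116772690702991755392,
  1275097697213946750881522387072, 2475975116772972190849042560, 7485800911115137543059931264,
  1346927214960478043672148082816, 1351859669502365156435485165696, 84247736601193020490401220736,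
  1351859669502364874973389031552, 84247736601193300857272303744, 1346927214960478044767373133952,
  84247736601193301952497354880, 1346927214960477763305276999808, 1351859669502365155340260114560,
  81713733627304188513001570304, 86723559421646637543519848448, 1354335455724478531257434671104,
  86723559421646919014197266432, 1354335455724478248691532201984, 81713733627304189608226621440,
  1354335455724478249786757253120, 81713733627304471078904039424, 86723559421646636448294797312,
  81713733627304469429632532608, 86723559421646918460150810752, 1354335455724478249241292081280,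
  86723559421646636998054676608, 1354335455724478529608163164288, 81713733627304470524857583744,
  1354335455724478530703388215424, 81713733627304189062761449600, 86723559421646917364925759616,
  2475975116772707210706976768, 7485800911115156241225254912, 1275097697213947049955140077568,
  7485800911115437711902672896, 1275097697213946767389237608448, 2475975116772708305932027904,
  1275097697213946768484462659584, 2475975116772989776609445888, 7485800911115155146000203776,
  1346927214960477745152576848000, 1351859669502364857915913930880, 84247736601193284920783407232,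
  1351859669502365139403771218048, 84247736601193002337701068928, 1346927214960477746247801899136,
  84247736601193003432926120064, 1346927214960478027735659186304, 1351859669502364856820688879744,
  1353068558124120344209467277312, 1350631288409637891269426643072, 1276354961462804865142539616384,
  1268907977684755598411900684288, 1276374228284556187671053043840, 1350650706051968796731084179584,
  19419118070994858173171712, 7485669717871584117325531264, 81762147485284157992984578176,
  1350631288409637908311840063616, 1276354961462804848641292009472, 1353068558124120343668301463680,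
  1276374228284556206912489719936, 1350650706051968778030813317120, 1268907977684755597870734870656,
  7485669717871568174390118528, 81762147485284174477085804544, 19419118070994317007358080,
  1276354961462804848100126195840, 1353068558124120360710714884224, 1350631288409637891810592456704,
  1350650706051968777489647503488, 1268907977684755617112171546752, 1276374228284556188212218857472,
  81762147485284173935919990912, 19419118070978374071945344, 7485669717871584658491344896,
  19419118070695520423151616, 7485669717871284779575511168, 81762147485283893839606646912,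
  1353068558124120360697846728704, 1350631288409637907757806094464, 1276354961462804848645570234496,
  1268907977684755881261271252992, 1276374228284556470520423612544, 1350650706051969077381431492736,
  7485669717871304021012187264, 81762147485283875139335784448, 19419118070694979257337984,
  1350631288409637891814870681728, 1276354961462804865129671460864, 1353068558124120360156680915072,
  1276374228284556487562837033088, 1350650706051969060880183885824, 1268907977684755880720105439360,
  81762147485283874598169970816, 19419118070714220694014080, 7485669717871285320741324800,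
  1276354961462804864588505647232, 1353068558124120344213745502336, 1350631288409637908298971908096,
  1350650706051969060339018072192, 1268907977684755897762518859904, 1276374228284556471061589426176,
  1268907977684755897749650704384, 1276374228284556487008803063936, 1350650706051969060884462110848,
  19419118070978369793720320, 7485669717871567628946079872, 81762147485284174489953960064,
  1353068558124120061360096708608, 1350631288409637608420056074368, 1276354961462804584492192303232,
  1276374228284556471065867651200, 1350650706051969077368563337216, 1268907977684755897208484890752,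
  7485669717871584671359500416, 81762147485284157988706353152, 19419118070977828627906688,
  1350631288409637627661492750464, 1276354961462804565791921440768, 1353068558124120060818930894976,
  1350650706051969076827397523584, 1268907977684755881265549478016, 1276374228284556487549968877568,
  81762147485284157447540539520, 19419118070994871041327232, 7485669717871568170111893504,
  1276354961462804565250755627136, 1353068558124120080060367571072, 1350631288409637608961221888000,
  5715265122516306812035707965462, 15876272129193420869116719296600, 10795770439280661822605954674774,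
  15915583977905315660279275852310, 5754567299673555084614412038744, 674065609760796038103647416918,
  15281449189241912860313669337614, 5120432511010147754660899086912, 39930821097393220545854857806,
  15281449189241910595319179252246, 5120432511010150019654315438680, 39930821097390973143550816854,
  5715265122516309209177216254478, 15876272129193418753862507192896, 10795770439280664219747462963790,
  15915583977905315528132257648662, 5754567299673554934875207790680, 674065609760795888364443168854,
  15915583977905317925273765937678, 5754567299673552819620995686976, 674065609760798285505951457870,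
  15281449189241910463172161048598, 5120432511010149869915111190616, 39930821097390823404346568790,
  5715265122516306944182726169110, 15876272129193421018855923544664, 10795770439280661972345158922838,
  10795770439280664078803814871128, 5715265122516307931339753025622, 15876272129193417493614814040086,
  674065609760798294301507613272, 15915583977905316797175506956886, 5754567299673551691520320737814,
  39930821097390964347994661440, 15281449189241913979617714397774, 5120432511010148891554714223118,
  39930821097393229341411013208, 15281449189241911732215410356822, 5120432511010146626560224137750,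
  10795770439280661963549602767424, 5715265122516310328481261314638, 15876272129193419890756322329102,
  674065609760798144562303365208, 15915583977905316647436302708822, 5754567299673551559373302534166,
  674065609760796029308091261504, 15915583977905319044577810997838, 5754567299673553956514810823182,
  39930821097393079602206765144, 15281449189241911582476206108758, 5120432511010146494413205934102,
  10795770439280664228543019119192, 5715265122516308081078957273686, 15876272129193417625761832243734,
  15876272129193418612918859100246, 10795770439280660703301909614614, 5715265122516310187537613221976,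
  5754567299673552828416551842390, 674065609760794901207416312342, 15915583977905319053373367153240,
  5120432511010150010858759283278, 39930821097392101241809797646, 15281449189241911723419854201408,
  5120432511010147763456455242326, 39930821097389836247319712278, 15281449189241913988413270553176,
  15876272129193421010060367389262, 10795770439280663100443417903630, 5715265122516308072283401118272,
  5754567299673552678677347594326, 674065609760794769060398108694, 15915583977905318903634162905176,
  5754567299673555075818855883342, 674065609760797166201906397710, 15915583977905316788379950801472,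
  5120432511010147613717250994262, 39930821097389704100301508630, 15281449189241913838674066305112,
  15876272129193418762658063348310, 10795770439280660835448927818262, 5715265122516310337276817470040,
  84209050384669523841109852288, 1346946557773591580327481968768, 1351879012905774783820682365056,
  1351879012905774502354299652224, 84209050384669806419897354368, 1346946557773591579215077179520,
  1346946557773591861793864681600, 1351879012905774501241894862976, 84209050384669524953514641536,
  1354374140760410387378753142912, 81733076440418304604537653376, 86665531572600945147784628352,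
  86665531572601226631355336832, 1354374140760410107007587223680, 81733076440418303492132864128,
  81733076440418023120966944896, 86665531572601225518950547584, 1354374140760410388491157932160,
  1275136382249878625159827587072, 2495317929886542368432228352, 7427773062069745878812493824,
  7427773062069464395249911808, 1275136382249878907738615089152, 2495317929886541273207308288,
  2495317929886823851994810368, 7427773062069463300024991744, 1275136382249878626255052507136,
  1275136382249878906076458549376, 2495317929886823302243059840, 7427773062069463845490034816,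
  7427773062069745329060743296, 1275136382249878625705292630144, 2495317929886822189838270592,
  2495317929886541818672351360, 7427773062069744216655954048, 1275136382249878907188863338624,
  84209050384669541444050124800, 1346946557773591597913242372096, 1351879012905774801423622637568,
  1351879012905774519940060055552, 84209050384669824022837626880, 1346946557773591596818017452032,
  1346946557773591879396804954112, 1351879012905774518844835135488, 84209050384669542539275044864,
  1354374140760410088859181908096, 81733076440418006084966418560, 86665531572601209578166814848,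
  86665531572600928111784102016, 1354374140760410371437969410176, 81733076440418004972561629312,
  81733076440418287551349131392, 86665531572600926999379312768, 1354374140760410089971586697344,
  1354374140760410106462122180608, 81733076440418023670726821888, 86665531572601227181107087360,
  86665531572600945697544505344, 1354374140760410389040909682688, 81733076440418022575501901824,
  81733076440418305154289403904, 86665531572600944602319585280, 1354374140760410107557347100672,
  1275136382249878607556887314560, 2495317929886524782671825024, 7427773062069728275872221312,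
  7427773062069446809489508480, 1275136382249878890135674816640, 2495317929886523670267035776,
  2495317929886806249054537856, 7427773062069445697084719232, 1275136382249878608669292103808,
  84209050384669822360681087104, 1346946557773591878847053203584, 1351879012905774519390300178560,
  1351879012905774800873870887040, 84209050384669541989515167872, 1346946557773591877734648414336,
  1346946557773591597363482495104, 1351879012905774799761466097792, 84209050384669823473085876352,
  1271403125747799318228245710848, 1355544438202690823017979807872, 1353107244046072113026119567488,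
  1355602390651246872004080601088, 1271383857763326659407533803648, 1268946663606707914231301474432,
  86713832084561952624223617024, 2495299196641737828653564032, 58105040023030035816579200,
  1353107244046072096533428406400, 1271403125747799336378777536640, 1355544438202690821360139143168,
  1268946663606707932922982402176, 1355602390651246854970240338048, 1271383857763326657749693138944,
  58105040023011344102162560, 86713832084561970774755442816, 2495299196641738369836154880,
  1355544438202690839510670968960, 1353107244046072094875587741696, 1271403125747799319886086375552,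
  1271383857763326640715852875904, 1268946663606707931265141737472, 1355602390651246873661921265792,
  2495299196641756520367980672, 58105040023011885284753408, 86713832084561952083041026176,
  86713832084561969112603068416, 2495299196641756516056270976, 58105040023011339823941760,
  1271403125747799601077616279552, 1355544438202691103668327121024, 1353107244046072395875490136192,
  1355602390651246572666330580992, 1271383857763326360069783783552, 1268946663606707650077923543168,
  58105040023030031504869504, 86713832084561952078762805376, 2495299196641754858215606272,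
  1353107244046072377183775719552, 1271403125747799619228148105344, 1355544438202691104209509711872,
  1268946663606707633585232382080, 1355602390651246590816862406784, 1271383857763326358411943118848,
  2495299196641737824375343232, 58105040023028373664204800, 86713832084561970770443733120,
  1355544438202691122360041537664, 1353107244046072377724958310400, 1271403125747799600536433688704,
  1271383857763326376562474944640, 1268946663606707631927391717376, 1355602390651246574324171245696,
  1355602390651246855515701149696, 1271383857763326640720131096704, 1268946663606707932927294111872,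
  86713832084561669774853048320, 2495299196641457178306250880, 58105040022747186446010496,
  1271403125747799617565995730944, 1355544438202691122355729827968, 1353107244046072377179497498752,
  1268946663606707914235579695232, 1355602390651246873666232975488, 1271383857763326641261313687552,
  58105040022730693754849408, 86713832084561687925384874112, 2495299196641455520465586176,
  1353107244046072395871178426496, 1271403125747799600532155467904, 1355544438202691120697889163264,
  1271383857763326659411845513344, 1268946663606707914776762286080, 1355602390651246854974518558848,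
  2495299196641473670997411968, 58105040022729035914184704, 86713832084561671432693713024,
  1355544438202691103664048900224, 1353107244046072394213337761792, 1271403125747799619223836395648]

def K2 : List ℕ :=
  [39616499108773663049074614286, 39621334812050993466977574922, 39618916960414020406622568458,
  618974742009247911324426254, 618984186742176267353743370, 618979464375768164633427978,
  40235473850782906562352521230, 40240318998793167535173820426, 40237896424789781973917777930,
  1182897468159031517198, 1187509151961390014474, 1185203313384716779530, 18518806065861111822, 18662919055014391818,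
  18590865859224293386, 1201416269826846109710, 1206172068817246908426, 1203794172646602854410,
  39616500291671126810059612174, 39621335999560143229210091530, 39618918145617327194001129482,
  618974760528049579139018766, 618984205405093123210637322, 618979482966627426519502858,
  40235475052199171991152111630, 40240320204965234153263230986, 40237897628583948023182413834,
  5110218900021689015038124253258, 15251428537550802689926092570702, 10180823718786245852483115032654,
  159075299770537850530647007306, 475987959272328171042292908110, 317531629521433010786672844878,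
  5269294199792226863369747980362, 15727416496823130854371181477966, 10498355348307678858871472922702,
  77372435352802192829736010, 232114944875165143800234574, 154743690113983668516300366, 151134246255695417602154,
  453365845278938967855198, 302250045767317394043006, 77523569599055689224057962, 232568310720437485564088926,
  155045940159746587595388542, 5110296272457041815031930709066, 15251660652495677848472688804430,
  10180978462476359831753316378190, 159075450904784104027041329258, 475988412638173443384056762462,
  317531931771478773705751933054, 5269371723361825916859948758122, 15727649065133851285259541566046,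
  10498510394247838601060753356414, 5110216482170052604927588450314, 15251421283995886688801881333774,
  10180818883082971332417066917902, 159075295048172005377745895434, 475987945105229318368659513358,
  317531620076700711351428866062, 5269291777218224040758311141386, 15727409229101115439822406688782,
  10498350503159671478619250647054, 77372433047526565975704586, 232114937958196884269179406,
  154743685502858452558702094, 151134174765449446707242, 453365629666907817783326, 302249902212880349032510,
  77523567221722468399207466, 232568303587296443952804382, 155045935404506183662597694,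
  5110293854603099561946540950538, 15251653398933844318338016354830, 10180973626768473625720380483086,
  159075446182346201280169398314, 475988398470858417928343138334, 317531922326602359082532761662,
  5269369300785445193679687144490, 15727641797404702168918225334814, 10498505549095075419653668107838,
  1426106925256760609967175630857, 1743019575313816834437292228621, 1584563250285290411058737971213,
  6496709326169676034518632890381, 16954826778052568561690782203913, 11725768052111122350881460715529,
  6338253001141149611208663367693, 16479457802966983662093845135369, 11408855402054068378271437815817,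
  9822522284368907145838601, 10124753739272543107285005, 9973638011820757540143117, 87193774739705135748349965,
  242238511105281336090820617, 164716142922493236164952073, 87042659012253418765942797, 241785163922925931749965833,
  164413911467589694843256841, 1426116747779044978865727340553, 1743029700067556106975957745677,
  1584573223923302231803116388365, 6496796519944415739650073165837, 16955069016563673843013844992009,
  11725932768254044844108762578953, 6338340043800161864545816543245, 16479699588130906587948147277833,
  11409019815965535967892985610249, 80280230208793653280777, 89724963174528254476301, 85002596691668402962445,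
  2498131869438046644994061, 7343279880862311353155593, 4920705875150179195682825, 2493409502955255378214925,
  7329112781413767374176265, 4911261142184505948241929, 648518354935481481, 792633538858975885, 720575953541006989,
  2954361359863120045, 7710162575086321817, 5332261967669756089, 2882303843129885869, 7493989857392329369,
  5188146844026275513, 80280878727139994633353, 89725755808062671684237, 85003317267608782243469,
  2498134823799402200039597, 7343287591024873411444889, 4920711207412138002350265, 2493412385259016895333549,
  7329120275403547318682265, 4911266330331276679055033, 1426107005536990818752234782729,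
  1743019665038780008961104936973, 1584563335287887102713979207693, 6496711824301545472560969809933,
  16954834121332449423989107326985, 11725772972816997501051793309705, 6338255494550652566382428815373,
  16479465132079765075783771488265, 11408860313315210562704090595337, 9822522932887253487191177,
  10124754531906077524492941, 9973638732396697919424141, 87193777694066491303395501, 242238518815443898149109913,
  164716148254755194971619513, 87042661894557180283061421, 241785171416915711694471833, 164413916655736465574069945,
  1426116828059923705997127845001, 1743029789793311915034187661965, 1584573308926619499398736905869,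
  6496799018079239539047965130925, 16955076359851264867874228404377, 11725937688965252256237901840569,
  6338342537212547123481099109549, 16479706917251181991418018136729, 11409024727231866299096369202873,
  79305533766721944352236535819, 79460276271631490437070553103, 79382905019178407069348855823,
  1238091155012903846679707659, 1238393386467771769979764751, 1238242270740391409722916879,
  80543624921734847099404582923, 80698669658099261657160187919, 80621147289918796829535830031,
  5149907934679637298023839662351, 15291267479010383183614293639435, 10220587706845010240845037732107,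
  159694416183541508115334791439, 476607368472053763246416527627, 318150892327797635681127268619,
  5309602350863178805589418541327, 15767874847482436945211308441867, 10538738599172807875426384904459,
  5149830563427184355393472102415, 15291035365253018440900389404683, 10220432964340103086198128476171,
  159694265067814268492432080911, 476606915124871583132580610059, 318150590096342977764682465291,
  5309524828494998481499148320783, 15767642280377889882195835781131, 10538583554436445922675298238475,
  592601654468504879115, 597213339936773865487, 594907498028279726095, 9295430730406463499, 9439545368859740175,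
  9367488874469722127, 601897084099399682059, 606652884755743475727, 604274985253213505551,
  2418444240883176024802575, 7254152131028810796827403, 4836298185955993612093195, 4731661913050293831983,
  14176538995077305927963, 9454100454064001157435, 2423175902795676562722095, 7268328670022238701030171,
  4845752286408957833154363, 2418441935182004884800527, 7254145213639971425124875, 4836293574410164527924747,
  4731589997293257951279, 14176322962482925701147, 9453956479063661054011, 2423173525036911386889263,
  7268321536460617216592411, 4845747530747940676275771, 79305534359323597721229754379, 79460276868844829823954288655,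
  79382905614085903448092639247, 1238091164308333477574510603, 1238393395907316588949374991,
  1238242280107878634656696335, 80543625523631930099292604427, 80698670264752145863013533711,
  80621147894193780433213392911, 5149910353123878180650108552463, 15291274733162514210775688741643,
  10220592543143196195738869729035, 159694420915203420615872710959, 476607382648592756674320730395,
  318150901781898088645348329787, 5309604774039081600716225350959, 15767882115811106965800607746843,
  10538743444925094283284437962555, 5149832981869119395011601040399, 15291042619398231939034680295947,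
  10220437800633677355075143697931, 159694269799404123398934169647, 476606929301194403778372077595,
  318150599550299315540830816315, 5309527251668523376023779347503, 15767649548699426200975918139931,
  10538588400183976529328461811259, 10795769235042560392455080141898, 5715267540404841917787428635214,
  15876278183345891649439743092298, 1010784103289666597252673073258, 842421230983654241740411916382,
  1179146961539277870846179815546, 11151681829697811426441447634030, 5912716570643673944643796226650,
  16390639849474789629268032501374, 59891395273963008493898462058, 49907481464084666929165653854,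
  69875309187622293222744929658, 20427534835009511089351976314, 10523254291347973151653643118,
  30331815489585694052357777242, 60510678145863574857005430622, 50526608504808827621587047802,
  70494747904282121732586222446, 10835542893344746032587748702062, 5754956573906500005295901660506,
  15916121959345650966828814447486, 1010165427243192145128883778910, 841802417986245943387661030266,
  1178528450777683960589983692654, 11112836936923063971037994312570, 5873801394888778113073920362350,
  16351879718449161700859863377242, 8567636742610870652732512142346, 18570111861708171923750288359950,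
  13806672133529551775359745394186, 13835843203146735918200042033194, 8626588353811345595289751261214,
  18599439652395790410870460780602, 18589375804275963474531062649902, 13855419798159219509201178726938,
  8616611382959548828730847401534, 12726571550795080340576607147306, 7675695645795642006530976650014,
  17806925902876220836059214518074, 2862892456497375582197937603850, 2724165493851864842463566627598,
  3031330433322003145795374417674, 13043948590112443431405610340654, 7834848469112774556623450935578,
  18282990932347781273162765308222, 18748373719810996888050608378158, 13539280852366032905961003290906,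
  8775609312654764267333265396030, 13518466487321673194304244028718, 8784503227650224336281805787930,
  18757508815396829010978526730046, 8726170587645462090656661636362, 18728646023148163290978892645134,
  13489605040836774515561591473930, 18728646157727084387921241071630, 13489603517867457168358253019146,
  8726171033905127677322707869710, 13538732762699988294103318687758, 8775138731191946605046608187402,
  18747985208350784896521817567246, 8784893106223105389187445846026, 18757657513264135962171034849294,
  13518856365892374467604926705674, 12746219013180418719292072425230, 7665867078840291027423173301514,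
  17797092500335081307763042956046, 2882699789870779558432655302974, 2714261817659909664692681589034,
  3021426747791635984487216324894, 13063905225827055801285233637178, 7824865306048143688152413394222,
  18273002924252917120105959666458, 8627133109485931590508318062346, 18599897521247022768185147413774,
  13836233225763360080992281834250, 13855181035308492776382540837178, 8616141110809520058556480246062,
  18589141877126194683136783954202, 18570112926605107661838139287358, 13806671219747960641336413799722,
  8567637505276440431055207146270, 13468837601868246545878623977485, 8715127785677199416054592831497,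
  18697916449813292026832033939469, 8715597609196232704225672429581, 18698304203325201544206588313609,
  13469387214491352972297057075213, 18698384438692908580209038458889, 13469225957481878125447282163725,
  8715677688725862623654948372489, 4120069233804966367899702264237, 3961515476911091033392475013529,
  4278622594020075155690501964221, 14261641284632073338693437359533, 9032543551941099492592303735705,
  19490565328683789224883353814973, 13944612707561249062814025254281, 8874144931869718135746357887885,
  19015254568570822510880843892617, 15053545772138051324420974707113, 9824390062956073236196337648029,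
  19807333016250002250395976991161, 19807453469656420434973669983657, 15053953949887213933269085062045,
  9824804393953608897392729393081, 9824898239179017708535424222605, 19807546809588705651013485331337,
  15053766729311356953063730448269, 2218433391631348840247892377837, 2059954734531650581725076521177,
  2376912091232363458981117034749, 12359930781844361641984052430061, 7130907709767481964940493849305,
  17589004586304348773215955322621, 12043051965181808611146626761929, 6972434429082006439036972958413,
  17113618726397204983229034006217, 49974449429863529097725821, 29909112082422580844692841,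
  70096455409286080416449373, 499732631114655220761626445, 457849967317712739436070217, 599587072538647300460774221,
  538085335026894988583633273, 438330063064855981848527213, 579812160747917165386006873,
  2218443280272618648802751416281, 2059964486221986544050973967869, 2376922145158513809403669906409,
  12360090596174243609076276659177, 7130997241117215555866293438429, 17589249162383350267355099825657,
  12043221139237700141434157401597, 6972518978337370416699234321385, 17113858018150670190822359566301,
  15053405607577608579305101066473, 9824324412616363691228933914845, 19807117898288743398304655081721,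
  19807537872511704072999671956713, 15053813492540049250268559180509, 9824889235988975442345697740537,
  9824832588839308163634527470797, 19807481305642357075054979711689, 15053925792780734760247035430605,
  4120059345174541227247689795545, 3961506036903175922347442439677, 4278613163461252494824056554473,
  14261482093660439804379339424745, 9032613598805860072195884058589, 19490640220689463555731196216825,
  13944762689918889519664118892029, 8874060382625198825986804679657, 19015174855022772216968119322589,
  13468997335920654507174316738429, 8715207730623351083986004215145, 18698155505457890650126199292765,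
  8715677242466196502707280283469, 18698384304113986775260612003145, 13469227480451194802023210943309,
  18698304961273504680176671261049, 13469385691534286086689928511853, 8715598367140013029896414560601,
  12683084070641910429129732490511, 7610159776869536411687244202763, 17756240478614386948140372756239,
  2937788120521398325793199327535, 2776777788878282106479703558427, 3098797999260071954585607506239,
  13078141536933698823422630137131, 7846529257722540384750580468511, 18309522156177373967298528448315,
  8560903318324949375400338916367, 18548523010446784651383944643083, 13792286354977469938708093470223,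
  13868798374919752456980918700079, 8644613730781523907830378661915, 18625042137112549849441437747263,
  18621487438023315129536501910571, 13872901011526914459141366483487, 8641294937069744369623874801211,
  18706982206670655774002862325771, 13475367206936060371647011684367, 8719362363430804091095446880267,
  13556682893481764296083045451787, 8800516502098754424233472362511, 18780790619714665926242493564939,
  8802224266394942890550221309967, 18782416313561005280740947724299, 13551042806646316996658722408463,
  84650195570831899870225468271, 82093922218026770488669441883, 87206469359459370740398329215,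
  6191223903612287201167771007, 3714583817023961446646219627, 8667864433156656255668488031,
  85888449052670966866894229339, 83332019868689431814652628351, 88444878686057699883898932075,
  10857206845019139873135709523055, 5791475805830957481907404802651, 15930358270452294513450403630719,
  954458125272435799294194877519, 800950396265553233616514449995, 1115393508239174048630879946319,
  11175352908141434647541783726187, 5951172646357212425641252096095, 16406968049099782188990498080891,
  10861999026821508960092011335243, 5788924972198141840388263185487, 15927652694764099500319519705675,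
  959409592489426607983704113275, 798474360197765607435344216175, 1112917170378293892671840354395,
  11180154449669813297693390900863, 5948616830630027170858569108587, 16404257189086050889313793116767,
  12762471810781435993965446926187, 7689312985406902209947671530847, 17835398522848221762280377846651,
  2936549888290676806071321595227, 2775540005270070616364805720959, 3097560225100952914649293688683,
  13000001719326556133557467317119, 7768618677951791808803163015019, 18231616421547539142593826424159,
  18781179131174877490594438973547, 13557230983147808482413054527583, 8800987083561571662691650504827,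
  13550652928075615296231090818155, 8801834387822061412116808206943, 18782267615693697905669966532219,
  8719361917171138077285743723599, 18706982072091734251482909377099, 13475368729905377294938753599055,
  8645007994079304856482586136143, 18625200192358788820308944030795, 13869188104747925726741771881039,
  13872362435071194341508270229631, 8640824664917986641037816957035, 18621103604070185168977987799135,
  18548523782555269494841233081979, 13792284855620705970520117150831, 8560904080988790198626358559323,
  3021426761928961478264585470054, 2882699799283467668827137908818, 2714261822458820993534862057586,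
  18273010191935894233521724081250, 13063910070936208476890242490966, 7824867728700889768783162926710,
  17797099753848980880938954146882, 12746223848849560532704697524806, 7665869496768401981041902904902,
  18589149125928929131609243010914, 13855185866257463497239058195798, 8616143538182326708713276334966,
  8567635077938762699978331149654, 18570110513441485298995459273586, 13806676060250151475396038129506,
  13836228404188502215644852540278, 8627135536743520260938315085666, 18599899943899770924642813113682,
  18747992452424563013866024617538, 13538737603089190711934300988486, 8775141153840118198250891403846,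
  13518851525437274359595378692214, 8784895519320512386481371230306, 18757659940636945040101547208786,
  8726168630190884979276413949558, 18728643749288204271290943812706, 13489608358369505127667292467794,
  3031330419221650326617109585970, 2862892447010761325581348913190, 2724165489089921827624787648534,
  18282983664703925227561748555318, 13043943744925032252511275729954, 7834846046499154049624185512466,
  17806918649396909686716597560838, 12726566715056763943065961382914, 7675693227902119338258479456770,
  18757501571353276059178096681270, 13518461646854322444267191288098, 8784500805036603723780965277970,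
  13489609881338387162619583166258, 8726168174481220999620619425062, 18728643595809908606602661344022,
  8775611716417180039714322020098, 18748376128178289264809503642886, 13539276011900846177190110573318,
  18599432403636539795611820777478, 13835838372128480089940565442562, 8626585926477701611854320902146,
  8616613810322268046859290832898, 18589378217363316702428424327174, 13855414957694032956541126586374,
  13806676955132330027554156343298, 8567634315272687043193549901830, 18570109439094660646686819627014,
  30331815452620161369543549010, 20427534908940609032934154358, 10523254254382433870463123558,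
  70494747865154843736310030934, 60510678224118110900072244850, 50526608465681542977540342882,
  69875309153034652654656037446, 59891395343138296691546940994, 49907481429497019712331072578,
  1178528446018495972398891018070, 1010165436761567785056852010354, 841802413227057843047221183330,
  16351877305285231437396567405410, 11112841763250927565035728828246, 5873798981724844359708943340918,
  15916124377158092971491459347826, 10835538057719864958598257079142, 5754958991718938625610084538198,
  1179146966224750940198024783430, 1010784093918720570287388386370, 842421235669127198941936632386,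
  16390642262567171205348280774770, 11151677003513051737949273092198, 5912718983736052030874003722326,
  15876275765457361197028733105778, 10795774070819624707962706359398, 5715265122516308081079494136406,
  580263146660723969743127073, 538380482880634833414391317, 438526041437467275533222965, 599154976171253438363993141,
  499399704190074146768552481, 457672878485940494594475537, 70077565871684042480944661, 50012228506193511527744561,
  29890222544750161215095329, 17589227425332659498328334533413, 12360134070275614591818745251601,
  7130975504066527109007957034289, 17113879778813113611304767063345, 12043177617912803026863562687269,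
  6972540738999816088986137397013, 2376922121546752924893832546065, 2218443327496138869725086614837,
  2059964462610225729895251051301, 17588987675509973617069955481605, 12359964603433111954420707885057,
  7130890798973106808759940284417, 17113635651358679588168201666561, 12043018115258859401638697762821,
  6972451354043481043947536515077, 2376912077065264010384343826433, 2218433419965547737463131734021,
  2059954720364551133113606471685, 19490543676631317226442200711781, 14261675181776720641009035773521,
  9032517054747716065075349947505, 19015271569086031322280244544625, 13944569261792359768880006038117,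
  8874157096688460183119970960981, 4278612993456130219176038499921, 4120059685184782963858920178805,
  3961505866898053717003609834085, 8557141713906924180708998514129, 18539848775554735810189203080181,
  13786298537569716189130745448421, 13786140321764257365972596294645, 8557221052025019632183276472289,
  18539927646158531443170095400401, 18539699317377919468719249557477, 13785909712080598136685690619345,
  8556751542543376524813164610545, 14737013574820441718606339245809, 9983289194848768881506947433701,
  19965937831371515632116614824661, 9983345152532568317653729412805, 19965993869335635243486783997121,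
  14736900665394193904647319585473, 19965574199705441031341730169077, 14736493004744214157664252854497,
  9982780714033057946551725850833, 19490623224896869206716220702725, 14261525492205913375026073567233,
  9032601448154179474424065425409, 19015196540131481008740411375617, 13944728764439932067269536907269,
  8874086903430376633660438740997, 4278622726246336676081624940545, 4120068969352443327176033959941,
  3961515609137352553719037165573, 14736853925777620457886969235377, 9983354406008395941797494785445,
  19966003481711225599317420540821, 9983261042464007039762619697029, 19965909612873712996669926147457,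
  14737041122741359009881279955841, 19965789171273339336724192952757, 14736633462091379262898213224865,
  9982846217979406944760276451729, 8557221814683317581468650702513, 18539928408812304506229835170981,
  13786138803517166188562424005269, 13786299432451895541529770460805, 8557140951240849324165157618817,
  18539847701207912063673042993793, 18539460105895299988634386038965, 13785750289704234844411992211617,
  8556671441759204000144205283473, 1112917623585886104909159399715, 959409894579020464547249029399,
  798474511612263108430371324215, 16404489756041743024644949607719, 11180309494257503915914007446291,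
  5948694353299175513129742862131, 15927884808370631197567240701191, 10862153769182466787202442494723,
  5789002343749294095655298500355, 1115393055179234567390855528503, 954457822887554461179365621795,
  800950244998704101273986170899, 16406735482293891142730010691123, 11175197863254124155643446756391,
  5951095123837869676624761881111, 15930126156991031279275691050499, 10857052102367646109439440782343,
  5791398434425073549526924558855, 8667864285510664540482732311, 6191224198904324370439700787,
  3714583669377968047763030307, 88444878536249945267457524499, 85888449352286424631039592247,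
  83332019718881675581555541287, 87206469214191262535767851779, 84650195861368118755803105031,
  82093922072758660632959583495, 18621335566572190341333945354087, 13872517026318619675940724311379,
  8640902338700556099614859821939, 8560826407353757803147105471827, 18548446562274375371074722892663,
  13792439749540114759708407598951, 13869033815441701925915509066611, 8645085667414614940169422409575,
  18625277715027938816057129798999, 18782035804454914375809446936691, 13550498034301725779903416303719,
  8801756865302718135402985848919, 13475523623822478938780227702391, 8719284696887896273611075947619,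
  18706904398454395942626602289747, 8801064001765216440165231464007, 18781256200044718453025923075139,
  13557076089376082982299487078979, 3097560073837723058699855103827, 2936550190817134883409263560055,
  2775539854006840653247205802855, 18231539201265472850956620696423, 13000156159890690511855480835923,
  7768541457669722032262105075059, 17835475893950798975015038651767, 12762317068576283205395940608867,
  7689390356509476043331666644819, 18781022431094354229382348998407, 13556837786956143696279184246019,
  8800594024763328287770184745731, 13550887912886407499904892602675, 8802301486389988816761253300519,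
  18782493987343577589474897004823, 8719285445386012004537884413747, 18706905137507865296603759938855,
  13475522100855326717230779173655, 18624810174764708117984896581635, 13868643783381680231186656591879,
  8644536057148796722077440835591, 8641372610840497860177317955591, 18621564658006578334586213304323,
  13872746117755189557642690856963, 13792440644422293742995782207495, 8560825644687682577491613124611,
  18548445487927551149945333647363, 3098798150228225525018190317315, 2937787818585091291306319381767,
  2776777939846435569709768442631, 18309599376166530205012550256951, 13077987096955389780739144386851,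
  7846606477711693137562363824403, 17756163107214359929792474812215, 12683238813441967897951611358499,
  7610082405469506013990224071443]

private noncomputable def _root_.Cfsg.Agent.KO3be2232.k7.{ku0} : type_of% @List.tail.{ku0} := @(fun x0 x1 => @List.rec.{(ku0+1), ku0} @x0 @(fun x2 => @List.{ku0} @x0) [] @(fun x2 x3 x4 => @x3) @x1)
private theorem _root_.Cfsg.Agent.KO3be2232.e7.{ku0} : @List.tail.{ku0} = @_root_.Cfsg.Agent.KO3be2232.k7.{ku0} := by delta _root_.Cfsg.Agent.KO3be2232.k7; rfl'
private noncomputable def _root_.Cfsg.Agent.KO3be2232.k9 : (by first | exact type_of% @Cfsg.Agent.H134.Syl.F4.chk | exact Unit : Sort _) := by first | (refine @Subtype.val _ (fun g => @Cfsg.Agent.H134.Syl.F4.chk = @g) (@Subtype.mk _ _ (@(fun (x0 : ((@List.{0} @Nat) → @Nat)) (x1 : @List.{0} (@List.{0} @Nat)) (x2 : @List.{0} @Nat) => @List.rec.{1, 0} (@List.{0} @Nat) @(fun (x3 : @List.{0} (@List.{0} @Nat)) => ((@List.{0} @Nat) → @Bool)) @(fun (x3 : @List.{0} @Nat) => @List.rec.{1, 0} @Nat @(fun (x4 : @List.{0} @Nat) => (((@Nat.hasNotBit (nat_lit 1) (@List.ctorIdx.{0} @Nat @x4)) → @Bool) → @Bool))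 @(fun (x4 : ((@Nat.hasNotBit (nat_lit 1) (@List.ctorIdx.{0} @Nat (@List.nil.{0} @Nat))) → @Bool)) => @Bool.true) @(fun (x4 : @Nat) (x5 : @List.{0} @Nat) (x6 : (((@Nat.hasNotBit (nat_lit 1) (@List.ctorIdx.{0} @Nat @x5)) → @Bool) → @Bool)) (x7 : ((@Nat.hasNotBit (nat_lit 1) (@List.ctorIdx.{0} @Nat (@List.cons.{0} @Nat @x4 @x5))) → @Bool)) => @x7 (@Nat.ne_of_beq_eq_false (@Nat.land (@OfNat.ofNat.{0} @Nat (nat_lit 1) (@instOfNatNat (nat_lit 1))) (@Nat.shiftRight (nat_lit 1) (nat_lit 1))) (@OfNat.ofNat.{0} @Nat (nat_lit 1) (@instOfNatNat (nat_lit 1))) (@Eq.refl.{1} @Bool @Bool.false))) @x3 @(fun (x4 : @Nat.hasNotBit (nat_lit 1) (@List.ctorIdx.{0} @Nat @x3)) => @Bool.false)) @(fun (x3 : @List.{0} @Nat) (x4 : @List.{0} (@List.{0} @Nat)) (x5 : ((@List.{0} @Nat) → @Bool)) (x6 : @List.{0} @Nat) => @List.rec.{1, 0} @Nat @(fun (x7 : @List.{0} @Nat) => (((@Nat.hasNotBit (nat_lit 2) (@List.ctorIdx.{0} @Nat @x7)) → @Bool) → @Bool)) @(fun (x7 : ((@Nat.hasNotBit (nat_lit 2) (@List.ctorIdx.{0} @Nat (@List.nil.{0} @Nat))) → @Bool)) => @x7 (@Nat.ne_of_beq_eq_false (@Nat.land (@OfNat.ofNat.{0} @Nat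 (nat_lit 1) (@instOfNatNat (nat_lit 1))) (@Nat.shiftRight (nat_lit 2) (nat_lit 0))) (@OfNat.ofNat.{0} @Nat (nat_lit 1) (@instOfNatNat (nat_lit 1))) (@Eq.refl.{1} @Bool @Bool.false))) @(fun (x7 : @Nat) (x8 : @List.{0} @Nat) (x9 : (((@Nat.hasNotBit (nat_lit 2) (@List.ctorIdx.{0} @Nat @x8)) → @Bool) → @Bool)) (x10 : ((@Nat.hasNotBit (nat_lit 2) (@List.ctorIdx.{0} @Nat (@List.cons.{0} @Nat @x7 @x8))) → @Bool)) => @Bool.rec.{1} @(fun (x11 : @Bool) => @Bool) @Bool.false (@x5 @x8) (@Nat.beq (@x0 @x3) @x7)) @x6 @(fun (x7 : @Nat.hasNotBit (nat_lit 2) (@List.ctorIdx.{0} @Nat @x6)) => @Bool.false)) @x1 @x2)) ?_); funext a0 a1 a2; refine (congrFun (_root_.Cfsg.Agent.KO3be2232.e0 (fun a1 a2 => @Cfsg.Agent.H134.Syl.F4.chk a0 a1 a2) ?_ (fun c0 c1 => ?_) a1) a2 :) <;> [(funext b0; (cases b0 with | @nil  => (rfl') | @cons b0_0 b0_1 => (rfl'))); (funext b0; (cases b0 with | @nil  => (rfl') | @cons b0_0 b0_1 => (rfl')))]) | exact @Cfsg.Agent.H134.Syl.F4.chk | exact ()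
private theorem _root_.Cfsg.Agent.KO3be2232.e9 : (by first | exact @Cfsg.Agent.H134.Syl.F4.chk = @_root_.Cfsg.Agent.KO3be2232.k9 | exact True : Prop) := by first | (delta _root_.Cfsg.Agent.KO3be2232.k9; exact @Subtype.property _ (fun g => @Cfsg.Agent.H134.Syl.F4.chk = @g) _) | rfl | trivial
private noncomputable def _root_.Cfsg.Agent.KO3be2232.k10.{ku0, ku1} : type_of% @List.foldr.{ku0, ku1} := @(fun x0 x1 x2 x3 x4 => @List.rec.{(ku1+1), ku0} @x0 @(fun x5 => @x1) @x3 @(fun x5 x6 x7 => @x2 @x5 @x7) @x4)
private theorem _root_.Cfsg.Agent.KO3be2232.e10.{ku0, ku1} : @List.foldr.{ku0, ku1} = @_root_.Cfsg.Agent.KO3be2232.k10.{ku0, ku1} := by delta _root_.Cfsg.Agent.KO3be2232.k10; funext a0 a1 a2 a3 a4; refine (_root_.Cfsg.Agent.KO3be2232.e0 (fun a4 => @List.foldr.{ku0, ku1} a0 a1 a2 a3 a4) ?_ (fun c0 c1 => ?_) a4 :) <;> (rfl')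
private noncomputable def _root_.Cfsg.Agent.KO3be2232.k11 : (by first | exact type_of% @Cfsg.Agent.ChevalleyStructure.TwF4.Bits.moveRow | exact Unit : Sort _) := by first | (refine @Subtype.val _ (fun g => @Cfsg.Agent.ChevalleyStructure.TwF4.Bits.moveRow = @g) (@Subtype.mk _ _ (@(fun x0 x1 x2 => @Nat.shiftLeft (@Nat.mod (@Nat.shiftRight @x0 (@Nat.mul (nat_lit 52) @x2)) (@Nat.pow (nat_lit 2) (nat_lit 52))) (@Nat.mul (nat_lit 52) @x1))) ?_); rfl') | exact @Cfsg.Agent.ChevalleyStructure.TwF4.Bits.moveRow | exact ()
private theorem _root_.Cfsg.Agent.KO3be2232.e11 : (by first | exact @Cfsg.Agent.ChevalleyStructure.TwF4.Bits.moveRow = @_root_.Cfsg.Agent.KO3be2232.k11 | exact True : Prop) := by first | (delta _root_.Cfsg.Agent.KO3be2232.k11; exact @Subtype.property _ (fun g => @Cfsg.Agent.ChevalleyStructure.TwF4.Bits.moveRow = @g) _) | rfl | trivial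
private noncomputable def _root_.Cfsg.Agent.KO3be2232.k12 : type_of% @Nat.decEq := @(fun x0 x1 => @Bool.rec.{1} @(fun x2 => (@Eq.{1} _ (@Nat.beq @x0 @x1) @x2) → @Decidable (@Eq.{1} _ @x0 @x1)) @(fun x2 => @Decidable.isFalse _ (@Nat.ne_of_beq_eq_false _ _ @x2)) @(fun x2 => @Decidable.isTrue _ (@Nat.eq_of_beq_eq_true _ _ @x2)) (@Nat.beq @x0 @x1) (@Eq.refl.{1} _ (@Nat.beq @x0 @x1)))
private theorem _root_.Cfsg.Agent.KO3be2232.e12 : @Nat.decEq = @_root_.Cfsg.Agent.KO3be2232.k12 := by delta _root_.Cfsg.Agent.KO3be2232.k12; rfl'
private noncomputable def _root_.Cfsg.Agent.KO3be2232.k13 : (by first | exact type_of% @Cfsg.Agent.ChevalleyStructure.TwF4.Bits.lmul | exact Unit : Sort _) := by first | (refine @Subtype.val _ (fun g => @Cfsg.Agent.ChevalleyStructure.TwF4.Bits.lmul = @g) (@Subtype.mk _ _ (@(fun x0 x1 => @Decidable.rec.{1} _ @(fun x2 => ℕ) @(fun x2 => @Cfsg.Agent.KO3be2232.k10.{0, 0} _ _ @(fun x3 x4 => @Nat.xor @x4 (@Cfsg.Agent.KO3be2232.k11 @x1 (@Prod.fst.{0, 0} _ _ @x3) (@Prod.snd.{0, 0} _ _ @x3))) (nat_lit 0) @x0) @(fun x2 => @Eq.rec.{1, 1} ℕ (nat_lit 0) @(fun x3 x4 => ℕ) (nat_lit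 0) @x1 (@Eq.symm.{1} _ _ _ @x2)) (@Cfsg.Agent.KO3be2232.k12 @x1 (nat_lit 0)))) ?_); rewrite [← Cfsg.Agent.KO3be2232.e12, ← Cfsg.Agent.KO3be2232.e11, ← Cfsg.Agent.KO3be2232.e10.{0, 0}]; (try delta Cfsg.Agent.ChevalleyStructure.TwF4.Bits.lmul); (try generalize @Cfsg.Agent.ChevalleyStructure.TwF4.Bits.moveRow = g0); rfl') | exact @Cfsg.Agent.ChevalleyStructure.TwF4.Bits.lmul | exact ()
private theorem _root_.Cfsg.Agent.KO3be2232.e13 : (by first | exact @Cfsg.Agent.ChevalleyStructure.TwF4.Bits.lmul = @_root_.Cfsg.Agent.KO3be2232.k13 | exact True : Prop) := by first | (delta _root_.Cfsg.Agent.KO3be2232.k13; exact @Subtype.property _ (fun g => @Cfsg.Agent.ChevalleyStructure.TwF4.Bits.lmul = @g) _) | rfl | trivial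
private noncomputable def _root_.Cfsg.Agent.KO3be2232.k15 : (by first | exact type_of% @Cfsg.Agent.ChevalleyStructure.TwF4.Tables.nth | exact Unit : Sort _) := by first | (refine @Subtype.val _ (fun g => @Cfsg.Agent.ChevalleyStructure.TwF4.Tables.nth = @g) (@Subtype.mk _ _ (@(fun x0 x1 x2 => @List.rec.{1, 0} (@List.{0} @x0) @(fun x3 => ℕ → @List.{0} @x0) @(fun x3 => []) @(fun x3 x4 x5 x6 => @Nat.rec.{1} @(fun x7 => @List.{0} @x0) @x3 @(fun x7 x8 => @x5 @x7) @x6) @x1 @x2)) ?_); funext a0 a1 a2; refine (congrFun (_root_.Cfsg.Agent.KO3be2232.e0 (fun a1 a2 => @Cfsg.Agent.ChevalleyStructure.TwF4.Tables.nth a0 a1 a2) ?_ (fun c0 c1 => ?_) a1) a2 :) <;> [(funext b0; (rfl')); (funext b0; (cases b0 with | @zero  => (rfl') | @succ b0_0 => (rfl')))]) | exact @Cfsg.Agent.ChevalleyStructure.TwF4.Tables.nth | exact ()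
private theorem _root_.Cfsg.Agent.KO3be2232.e15 : (by first | exact @Cfsg.Agent.ChevalleyStructure.TwF4.Tables.nth = @_root_.Cfsg.Agent.KO3be2232.k15 | exact True : Prop) := by first | (delta _root_.Cfsg.Agent.KO3be2232.k15; exact @Subtype.property _ (fun g => @Cfsg.Agent.ChevalleyStructure.TwF4.Tables.nth = @g) _) | rfl | trivial
private noncomputable def _root_.Cfsg.Agent.KO3be2232.k16 : (by first | exact type_of% @Cfsg.Agent.FourTwo.RankInv.stepM | exact Unit : Sort _) := by first | (refine @Subtype.val _ (fun g => @Cfsg.Agent.FourTwo.RankInv.stepM = @g) (@Subtype.mk _ _ (@(fun x0 x1 => @Nat.xor @x1 (@Cfsg.Agent.KO3be2232.k13 (@Cfsg.Agent.KO3be2232.k1.{0} _ (@Cfsg.Agent.KO3be2232.k15 _ @Cfsg.Agent.ChevalleyStructure.TwF4.Tables.tabE @x0) (@Cfsg.Agent.KO3be2232.k15 _ @Cfsg.Agent.ChevalleyStructure.TwF4.Tables.tabF @x0)) @x1))) ?_); rewrite [← Cfsg.Agent.KO3be2232.e15, ← Cfsg.Agent.KO3be2232.e1.{0}, ← Cfsg.Agent.KO3be2232.e13]; (try delta Cfsg.Agent.FourTwo.RankInv.stepM Cfsg.Agent.ChevalleyStructure.TwF4.Tables.Els Cfsg.Agent.ChevalleyStructure.TwF4.Tables.Fls); (try generalize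 @Cfsg.Agent.ChevalleyStructure.TwF4.Bits.lmul = g0); (try generalize @Cfsg.Agent.ChevalleyStructure.TwF4.Tables.nth = g1); (try generalize @Cfsg.Agent.ChevalleyStructure.TwF4.Tables.tabE = g2); (try generalize @Cfsg.Agent.ChevalleyStructure.TwF4.Tables.tabF = g3); rfl') | exact @Cfsg.Agent.FourTwo.RankInv.stepM | exact ()
private theorem _root_.Cfsg.Agent.KO3be2232.e16 : (by first | exact @Cfsg.Agent.FourTwo.RankInv.stepM = @_root_.Cfsg.Agent.KO3be2232.k16 | exact True : Prop) := by first | (delta _root_.Cfsg.Agent.KO3be2232.k16; exact @Subtype.property _ (fun g => @Cfsg.Agent.FourTwo.RankInv.stepM = @g) _) | rfl | trivial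
private noncomputable def _root_.Cfsg.Agent.KO3be2232.k17 : (by first | exact type_of% @Cfsg.Agent.FourTwo.RankInv.wordM | exact Unit : Sort _) := by first | (refine @Subtype.val _ (fun g => @Cfsg.Agent.FourTwo.RankInv.wordM = @g) (@Subtype.mk _ _ (@(fun x0 => @List.rec.{1, 0} ℕ @(fun x1 => ℕ) @Cfsg.Agent.ChevalleyStructure.TwF4.Bits.idN @(fun x1 x2 x3 => @Cfsg.Agent.KO3be2232.k16 @x1 @x3) @x0)) ?_); rewrite [← Cfsg.Agent.KO3be2232.e16]; funext a0; refine (_root_.Cfsg.Agent.KO3be2232.e0 (fun a0 => @Cfsg.Agent.FourTwo.RankInv.wordM a0) ?_ (fun c0 c1 => ?_) a0 :) <;> ((try delta Cfsg.Agent.FourTwo.RankInv.wordM Cfsg.Agent.FourTwo.RankInv.wordM._f); (try generalize @Cfsg.Agent.ChevalleyStructure.TwF4.Bits.idN = g0); (try generalize @Cfsg.Agent.FourTwo.RankInv.stepM = g1); rfl')) | exact @Cfsg.Agent.FourTwo.RankInv.wordM | exact ()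
private theorem _root_.Cfsg.Agent.KO3be2232.e17 : (by first | exact @Cfsg.Agent.FourTwo.RankInv.wordM = @_root_.Cfsg.Agent.KO3be2232.k17 | exact True : Prop) := by first | (delta _root_.Cfsg.Agent.KO3be2232.k17; exact @Subtype.property _ (fun g => @Cfsg.Agent.FourTwo.RankInv.wordM = @g) _) | rfl | trivial
private noncomputable def _root_.Cfsg.Agent.KO3be2232.k18 : (by first | exact type_of% @Cfsg.Agent.H134.Syl.F4.f1 | exact Unit : Sort _) := by first | (refine @Subtype.val _ (fun g => @Cfsg.Agent.H134.Syl.F4.f1 = @g) (@Subtype.mk _ _ (@(fun x0 => @Nat.mod (@Nat.shiftRight (@Cfsg.Agent.KO3be2232.k17 (@Cfsg.Agent.KO3be2232.k1.{0} _ @x0 @Cfsg.Agent.H134.Syl.F4.x0)) (nat_lit 2184)) (nat_lit 20282409603651670423947251286016))) ?_); rewrite [← Cfsg.Agent.KO3be2232.e1.{0}, ← Cfsg.Agent.KO3be2232.e17]; (try delta Cfsg.Agent.H134.Syl.F4.f1 Cfsg.Agent.H134.Syl.F4.key); (try generalize @Cfsg.Agent.FourTwo.RankInv.wordM = g0); (try generalize @Cfsg.Agent.H134.Syl.F4.x0 = g1); rfl') | exact @Cfsg.Agent.H134.Syl.F4.f1 | exact ()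
private theorem _root_.Cfsg.Agent.KO3be2232.e18 : (by first | exact @Cfsg.Agent.H134.Syl.F4.f1 = @_root_.Cfsg.Agent.KO3be2232.k18 | exact True : Prop) := by first | (delta _root_.Cfsg.Agent.KO3be2232.k18; exact @Subtype.property _ (fun g => @Cfsg.Agent.H134.Syl.F4.f1 = @g) _) | rfl | trivial

theorem chk1 : chk f1 W7 K1 = true := by (first | (delta Cfsg.Agent.H134.Syl.F4.W7 Cfsg.Agent.H134.Syl.F4.W6 Cfsg.Agent.H134.Syl.F4.W5 Cfsg.Agent.H134.Syl.F4.W4 Cfsg.Agent.H134.Syl.F4.W3 Cfsg.Agent.H134.Syl.F4.W2 Cfsg.Agent.H134.Syl.F4.W1; rewrite [Cfsg.Agent.KO3be2232.e9, Cfsg.Agent.KO3be2232.e18, Cfsg.Agent.KO3be2232.e7.{0}, Cfsg.Agent.KO3be2232.e3]; decide +kernel) | decide +kernel)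
private noncomputable def _root_.Cfsg.Agent.KO3be2232.k19 : (by first | exact type_of% @Cfsg.Agent.H134.Syl.F4.f2 | exact Unit : Sort _) := by first | (refine @Subtype.val _ (fun g => @Cfsg.Agent.H134.Syl.F4.f2 = @g) (@Subtype.mk _ _ (@(fun x0 => @Nat.mod (@Nat.shiftRight (@Cfsg.Agent.KO3be2232.k17 (@Cfsg.Agent.KO3be2232.k1.{0} _ @Cfsg.Agent.H134.Syl.F4.x0 @x0)) (nat_lit 2184)) (nat_lit 20282409603651670423947251286016))) ?_); rewrite [← Cfsg.Agent.KO3be2232.e1.{0}, ← Cfsg.Agent.KO3be2232.e17]; (try delta Cfsg.Agent.H134.Syl.F4.f2 Cfsg.Agent.H134.Syl.F4.key); (try generalize @Cfsg.Agent.FourTwo.RankInv.wordM = g0); (try generalize @Cfsg.Agent.H134.Syl.F4.x0 = g1); rfl') | exact @Cfsg.Agent.H134.Syl.F4.f2 | exact ()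
private theorem _root_.Cfsg.Agent.KO3be2232.e19 : (by first | exact @Cfsg.Agent.H134.Syl.F4.f2 = @_root_.Cfsg.Agent.KO3be2232.k19 | exact True : Prop) := by first | (delta _root_.Cfsg.Agent.KO3be2232.k19; exact @Subtype.property _ (fun g => @Cfsg.Agent.H134.Syl.F4.f2 = @g) _) | rfl | trivial

theorem chk2 : chk f2 W6 K2 = true := by (first | (delta Cfsg.Agent.H134.Syl.F4.W6 Cfsg.Agent.H134.Syl.F4.W5 Cfsg.Agent.H134.Syl.F4.W4 Cfsg.Agent.H134.Syl.F4.W3 Cfsg.Agent.H134.Syl.F4.W2 Cfsg.Agent.H134.Syl.F4.W1; rewrite [Cfsg.Agent.KO3be2232.e9, Cfsg.Agent.KO3be2232.e19, Cfsg.Agent.KO3be2232.e3]; decide +kernel) | decide +kernel)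

/-- disjoint lists -/
def disj (K K' : List ℕ) : Bool := K.all fun a => K'.all fun b => !(Nat.beq a b)

theorem ne_of_disj {K K' : List ℕ} (h : disj K K' = true) {a b : ℕ} (ha : a ∈ K) (hb : b ∈ K') : a ≠ b := by
  unfold disj at h
  rw [List.all_eq_true] at h
  have h1 := h a ha
  rw [List.all_eq_true] at h1
  have h2 := h1 b hb
  rintro rfl
  simp at h2

/-- the residues of the elements of `K1` modulo `24208`, as bits -/
def msk : ℕ :=
  0x40010000000100010000000001000000000000010040000000000001000000010140000000000001400100000000000000010001000100000000000100000000000000010000000000010000000100000000400000400000000100000001000000010000000000000001004100000000000000000001000000000001004000000000000100010001000000400001000100000001000000000000000040000000004100010000000000000040000100010000000100000000000000000001000000000000000100000000000100000000000040010000000000000000000000000141000000010001000001000000000000004000000000000040000000000040000100010000000000000001000000000001000100000000000000000000000100000000000000000000000000000000400100000000000000000000000000000000000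000010041400000000000000000000000004000010001000101000000000100000000000000010000000000000000000000000000000100000000000000000001000000000001000000000001000140000100000100010000000000000001000000000001000001410000000000000001000000000000000100000000000100400001000000010000000000010001000000000000000000000000000000000000000000014000000000000000000000000000000000004000000000000001000000000001000100000000000000004000000000010000000000010001000000000000010000010001000000010001000000000000000100000000000040010000400000000000000000004000000000010000000000000000000000010000000000000000000100000000000000000001000100000000000040400000000000000000000001000000000000004000000100004000000040000001000000010000400000000000000000000000000000000000000000000001000100000000000100010000000040000001000000010000000000010001004100000001000000000000400100000001000000010001000000000000000000000001000000000001000000000001000040014000000001000000000140000000000000010000000000000000000000000000000000000000000000000040000000410001000100000000400000010001000100010001010000000000000000000000000000010001400100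000000000100000000000100000000000000000000000100000000000000000001010100010000000100000041400100000000000100000001000000000040000100010000000000000001000000014000000100010000000100000001000100010001000100000000000000000000000100000000000000010001000000000001000000010000004001000001000000000040000000010000000100410000000100000001000100010000000000000000000100010001000000000000000000010000000000000000000000000000000100000040000000000000000000400001000000000000004000000101000100000000000100000000000100000000000000000000000100010001000000410000000000000000000100000000000000010000000100000000004000000000000000000001000000000000000000000000000000000041000000000040000000000040000100010001000100400001000100400000000100010000000000010000000000000000000000010000000100000000000100000000000000000000000000000001000000004000000000000001004000000000004000000001000000000001400000000000000000000000000000010001010100000000000000010000000000010000004000010000000000000000000000000000000000000000000000010000000000010000000100010001000000000100000000000001000100000000000000410000000000010001000000004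000000000010000000000010000000000010000000000000001000100010001000000010001000000000000000100000000000000000000000100000000000100010000000100000041000000010000000000010000400000014000000001010001000100010000000000000000000100010000000000010000000000000001000000000001000100014000000000000000000000000000000000010000000100010000000000010000000101000000010100000000000000000000000000010000000040010000000040010000000000000000000100010001000000010001400000010000000000010000000000000001400000000000000000000000000100010000000000000001000000010001400000000000000000000000000100004040000140000000010000010000000100000000000100000000000100010000000000000001000100010000000100000000000040010000000100000000000000000100000000000001000100004000000000000000000100400001000040400000000000010001000100000000400100000001000100000001000000000001000100000000000000000041000001000000000000000000000100004000000100000000000000000001000000000000000000014001000100010041010000010000000000000000000000010000000000000000000000000001000100014000004100000001000000010000000100000000000000000001000000000001000000010000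000001000000000001000000004000000040000040000000000100000000004000000000400000000000000100010000000000000000000000000000000000000000000100000001000100010000000000400000000000000000000000000000000100000000004000400001000000000000000000000000004040000001000000000100000000000000000000004000000000010000004000000000000000010000000000000040000000000000000000010000004000010000000100000040000000000000000100400000010000000000000000000041000000000001000100010000400100000001000000000000000100010040000000010000000100000001000000010001000000410000000000000000000000000000000000004001000100010000400000010001010000000000004000000000000000000000000000000040000000010000000000010001000000410000000040000001000000000001000000000000000000000000000000000000400000000001000100010000000000000000000000400000000000000000000100000001000000010001000000400000000100010001000100014000000000000000000000000000000000410000000000000001400000000001000100000001000000000001000000010000000000000000000000010000000000014001000000010000000000000000000000000000000100014000010100000000000000010001000000010000004040000001000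10000000000000000000000000001000000010000000000000000000100010000000000000000000000010000000100010001000000010001000000010000000000000000000000000001000000000001000000000000000000000000000000000100000000010000000000000000000000010001000040010000000000010000000000010000000000000000000100000100000000000000000000010000000100000000000100000000000000404000000000000000000000000000000100010000000100000000000100000000000000010001000000000000000100000001400100000001000000000100000000010000000000004001000000000000000000400000000000010000000000010000000000010000000000010001000000000001000000000000000101000000000000000001000140000000000000000000000001000000000100000000000000000000000100000000000000000000000000010000010000000001000000010001000000010001004100000000000000010000000100000000000100400000010000000000000100000001000000000000000100000000000000004000000100010000000000000001000000000000000100000001000100010001000000000000000140000000000000010000000000000040000100010000000000000001000100010001000000000000000000010000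

theorem msk1 : (K1.all fun a => Nat.testBit msk (a % 24208)) = true := by decide +kernel
theorem msk2 : (K2.all fun b => !(Nat.testBit msk (b % 24208))) = true := by decide +kernel

theorem disj12 : disj K1 K2 = true := by
  unfold disj
  rw [List.all_eq_true]
  intro a ha
  rw [List.all_eq_true]
  intro b hb
  have h1 := List.all_eq_true.1 msk1 a ha
  have h2 := List.all_eq_true.1 msk2 b hb
  cases h3 : Nat.beq a b with
  | false => rfl
  | true =>
    exfalso
    have h4 : a = b := Nat.eq_of_beq_eq_true h3
    subst h4
    rw [h1] at h2
    exact absurd h2 (by decide)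

/-! ### the relations -/

theorem rel {w w' : List ℕ} (hw : (w.all fun r => decide (r < 48)) = true)
    (hw' : (w'.all fun r => decide (r < 48)) = true) (h : eqM w w' = true) : wd w = wd w' := wd_eq_of hw hw' h

theorem cube1 : wd g1 * (wd g1 * wd g1) = 1 := by
  rw [← wd_append, ← wd_append, ← wd_nil]
  exact rel (by decide) (by decide) (by decide +kernel)
theorem cube2 : wd g2 * (wd g2 * wd g2) = 1 := by
  rw [← wd_append, ← wd_append, ← wd_nil]
  exact rel (by decide) (by decide) (by decide +kernel)
theorem cube3 : wd g3 * (wd g3 * wd g3) = 1 := by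
  rw [← wd_append, ← wd_append, ← wd_nil]
  exact rel (by decide) (by decide) (by decide +kernel)
theorem cube4 : wd g4 * (wd g4 * wd g4) = 1 := by
  rw [← wd_append, ← wd_append, ← wd_nil]
  exact rel (by decide) (by decide) (by decide +kernel)
theorem cube5 : wd g5 * (wd g5 * wd g5) = 1 := by
  rw [← wd_append, ← wd_append, ← wd_nil]
  exact rel (by decide) (by decide) (by decide +kernel)
theorem cube6 : wd g6 * (wd g6 * wd g6) = 1 := by
  rw [← wd_append, ← wd_append, ← wd_nil]
  exact rel (by decide) (by decide) (by decide +kernel)

/-- `g a g⁻¹ = b` -/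
theorem conj_eq {g a b : List ℕ} (h1 : ((g ++ a).all fun r => decide (r < 48)) = true)
    (h2 : ((b ++ g).all fun r => decide (r < 48)) = true) (h : eqM (g ++ a) (b ++ g) = true) :
    wd g * wd a * (wd g)⁻¹ = wd b := by
  have h3 := rel h1 h2 h
  rw [wd_append, wd_append] at h3
  rw [h3, mul_inv_cancel_right]

/-- the generating sets -/
def S1 : Set LL := {wd g1}
def S2 : Set LL := insert (wd g2) S1
def S3 : Set LL := insert (wd g3) S2
def S4 : Set LL := insert (wd g4) S3
def S5 : Set LL := insert (wd g5) S4
def S6 : Set LL := insert (wd g6) S5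

theorem lst1 : Lst S1 (W1.map wd) := by
  have h := Lst.nil (G := LL)
  have h1 := h.step (g := wd g1) cube1 (by simp) (by
    have := not_mem_of (g := g1) (W := [[]]) (by decide) (by decide) (by decide +kernel)
    simpa using this)
  have e : (W1.map wd) = ext (wd g1) [1] := by
    unfold W1
    rw [map_extW]
    rfl
  rw [e]
  have e2 : S1 = insert (wd g1) ∅ := by unfold S1; simp
  rw [e2]
  exact h1

theorem lst2 : Lst S2 (W2.map wd) := by
  have e : (W2.map wd) = ext (wd g2) (W1.map wd) := map_extW _ _
  rw [e]
  refine lst1.step cube2 ?_ (not_mem_of (by decide) (by decide +kernel) (by decide +kernel))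
  intro s hs
  obtain rfl : s = wd g1 := hs
  rw [conj_eq (b := g1) (by decide) (by decide) (by decide +kernel)]
  exact subset_closure (Set.mem_singleton _)

theorem sub12 : S1 ⊆ S2 := Set.subset_insert _ _
theorem sub23 : S2 ⊆ S3 := Set.subset_insert _ _
theorem sub34 : S3 ⊆ S4 := Set.subset_insert _ _
theorem sub45 : S4 ⊆ S5 := Set.subset_insert _ _

theorem m1 : wd g1 ∈ S1 := Set.mem_singleton _
theorem m2 : wd g2 ∈ S2 := Set.mem_insert _ _
theorem m3 : wd g3 ∈ S3 := Set.mem_insert _ _
theorem m4 : wd g4 ∈ S4 := Set.mem_insert _ _
theorem m5 : wd g5 ∈ S5 := Set.mem_insert _ _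

theorem lst3 : Lst S3 (W3.map wd) := by
  have e : (W3.map wd) = ext (wd g3) (W2.map wd) := map_extW _ _
  rw [e]
  refine lst2.step cube3 ?_ (not_mem_of (by decide) (by decide +kernel) (by decide +kernel))
  intro s hs
  rcases Set.mem_insert_iff.1 hs with rfl | hs
  · rw [conj_eq (b := g2) (by decide) (by decide) (by decide +kernel)]
    exact subset_closure m2
  · obtain rfl : s = wd g1 := hs
    rw [conj_eq (b := g1) (by decide) (by decide) (by decide +kernel)]
    exact subset_closure (sub12 m1)

theorem lst4 : Lst S4 (W4.map wd) := by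
  have e : (W4.map wd) = ext (wd g4) (W3.map wd) := map_extW _ _
  rw [e]
  refine lst3.step cube4 ?_ (not_mem_of (by decide) (by decide +kernel) (by decide +kernel))
  intro s hs
  rcases Set.mem_insert_iff.1 hs with rfl | hs
  · rw [conj_eq (b := g3) (by decide) (by decide) (by decide +kernel)]
    exact subset_closure m3
  · rcases Set.mem_insert_iff.1 hs with rfl | hs
    · rw [conj_eq (b := g2) (by decide) (by decide) (by decide +kernel)]
      exact subset_closure (sub23 m2)
    · obtain rfl : s = wd g1 := hs
      rw [conj_eq (b := g1) (by decide) (by decide) (by decide +kernel)]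
      exact subset_closure (sub23 (sub12 m1))

theorem lst5 : Lst S5 (W5.map wd) := by
  have e : (W5.map wd) = ext (wd g5) (W4.map wd) := map_extW _ _
  rw [e]
  refine lst4.step cube5 ?_ (not_mem_of (by decide) (by decide +kernel) (by decide +kernel))
  intro s hs
  rcases Set.mem_insert_iff.1 hs with rfl | hs
  · rw [conj_eq (b := g3) (by decide) (by decide) (by decide +kernel)]
    exact subset_closure (sub34 m3)
  · rcases Set.mem_insert_iff.1 hs with rfl | hs
    · rw [conj_eq (b := g2) (by decide) (by decide) (by decide +kernel)]
      exact subset_closure (sub34 (sub23 m2))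
    · rcases Set.mem_insert_iff.1 hs with rfl | hs
      · rw [conj_eq (b := g4) (by decide) (by decide) (by decide +kernel)]
        exact subset_closure m4
      · obtain rfl : s = wd g1 := hs
        rw [conj_eq (b := g1) (by decide) (by decide) (by decide +kernel)]
        exact subset_closure (sub34 (sub23 (sub12 m1)))

/-- the element `g1 ^ a g2 ^ b g3 ^ c g4 ^ d` -/
def ew (a b c d : ℕ) : List ℕ :=
  (List.replicate a g1).flatten ++ ((List.replicate b g2).flatten ++ ((List.replicate c g3).flatten ++
    (List.replicate d g4).flatten))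

theorem wd_rep (n : ℕ) (g : List ℕ) : wd (List.replicate n g).flatten = wd g ^ n := by
  induction n with
  | zero => simp
  | succ n ih => rw [List.replicate_succ, List.flatten_cons, wd_append, ih, pow_succ']

theorem ew_mem (a b c d : ℕ) : wd (ew a b c d) ∈ Subgroup.closure S5 := by
  unfold ew
  rw [wd_append, wd_append, wd_append, wd_rep, wd_rep, wd_rep, wd_rep]
  have h1 : wd g1 ∈ Subgroup.closure S5 := subset_closure (sub45 (sub34 (sub23 (sub12 m1))))
  have h2 : wd g2 ∈ Subgroup.closure S5 := subset_closure (sub45 (sub34 (sub23 m2)))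
  have h3 : wd g3 ∈ Subgroup.closure S5 := subset_closure (sub45 (sub34 m3))
  have h4 : wd g4 ∈ Subgroup.closure S5 := subset_closure (sub45 m4)
  exact mul_mem (pow_mem h1 _) (mul_mem (pow_mem h2 _) (mul_mem (pow_mem h3 _) (pow_mem h4 _)))

theorem lst6 : Lst S6 (W6.map wd) := by
  have e : (W6.map wd) = ext (wd g6) (W5.map wd) := map_extW _ _
  rw [e]
  refine lst5.step cube6 ?_ (not_mem_of (by decide) (by (first | (delta Cfsg.Agent.H134.Syl.F4.W5 Cfsg.Agent.H134.Syl.F4.W4 Cfsg.Agent.H134.Syl.F4.W3 Cfsg.Agent.H134.Syl.F4.W2 Cfsg.Agent.H134.Syl.F4.W1; rewrite [Cfsg.Agent.KO3be2232.e6, Cfsg.Agent.KO3be2232.e3]; decide +kernel) | decide +kernel)) (by decide +kernel))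
  intro s hs
  rcases Set.mem_insert_iff.1 hs with rfl | hs
  · rw [conj_eq (b := g5) (by decide) (by decide) (by decide +kernel)]
    exact subset_closure m5
  · rcases Set.mem_insert_iff.1 hs with rfl | hs
    · rw [conj_eq (b := ew 2 1 1 2) (by decide) (by decide) (by decide +kernel)]
      exact ew_mem _ _ _ _
    · rcases Set.mem_insert_iff.1 hs with rfl | hs
      · rw [conj_eq (b := ew 2 1 2 1) (by decide) (by decide) (by decide +kernel)]
        exact ew_mem _ _ _ _
      · rcases Set.mem_insert_iff.1 hs with rfl | hs
        · rw [conj_eq (b := ew 2 2 1 1) (by decide) (by decide) (by decide +kernel)]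
          exact ew_mem _ _ _ _
        · obtain rfl : s = wd g1 := hs
          rw [conj_eq (b := ew 1 1 1 1) (by decide) (by decide) (by decide +kernel)]
          exact ew_mem _ _ _ _

/-- the Sylow 3-subgroup -/
def R : Subgroup LL := Subgroup.closure S6

theorem card_R : Nat.card ↥R = 729 := by
  have h := lst6.card
  rw [List.length_map] at h
  have h2 : W6.length = 729 := by decide +kernel
  rw [h2] at h
  exact h

private noncomputable def _root_.Cfsg.Agent.KO3be2232.k24 : type_of% @Decidable.decide := @(fun x0 x1 => @Decidable.rec.{1} _ @(fun x2 => @Bool) @(fun x2 => @Bool.false) @(fun x2 => @Bool.true) @x1)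
private theorem _root_.Cfsg.Agent.KO3be2232.e24 : @Decidable.decide = @_root_.Cfsg.Agent.KO3be2232.k24 := by delta _root_.Cfsg.Agent.KO3be2232.k24; rfl'
private noncomputable def _root_.Cfsg.Agent.KO3be2232.k26.{ku0} : type_of% @List.hasDecEq.{ku0} := @(fun x0 x1 x2 x3 => @List.rec.{(ku0+1), ku0} @x0 @(fun x4 => (x5 : @List.{ku0} @x0) → @Decidable (@Eq.{(ku0+1)} _ @x4 @x5)) @(fun x4 => @List.rec.{1, ku0} @x0 @(fun x5 => @Decidable (@Eq.{(ku0+1)} _ [] @x5)) (@Decidable.isTrue _ (@List.hasDecEq._proof_1.{ku0} _)) @(fun x5 x6 x7 => @Decidable.isFalse _ (@List.hasDecEq._proof_3.{ku0} _ @x5 @x6)) @x4) @(fun x4 x5 x6 x7 => @List.rec.{1, ku0} @x0 @(fun x8 => @Decidable (@Eq.{(ku0+1)} _ (@x4 :: @x5) @x8)) (@Decidable.isFalse _ (@List.hasDecEq._proof_2.{ku0} _ @x4 @x5)) @(fun x8 x9 x10 => @Decidable.rec.{1} _ @(fun x11 => @Decidable (@Eq.{(ku0+1)} _ (@x4 :: @x5) (@x8 :: @x9))) @(fun x11 => @Decidable.isFalse _ (@List.hasDecEq._proof_6.{ku0} _ @x4 @x5 @x8 @x9 @x11)) @(fun x11 => @Decidable.rec.{1} _ @(fun x12 => @Decidable (@Eq.{(ku0+1)} _ (@x4 :: @x5) (@x8 :: @x9))) @(fun x12 => @Decidable.isFalse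 _ (@List.hasDecEq._proof_5.{ku0} _ @x4 @x5 @x8 @x9 @x12)) @(fun x12 => @Decidable.isTrue _ (@List.hasDecEq._proof_4.{ku0} _ @x4 @x5 @x8 @x9 @x11 @x12)) (@x6 @x9)) (@x1 @x4 @x8)) @x7) @x2 @x3)
private theorem _root_.Cfsg.Agent.KO3be2232.e26.{ku0} : @List.hasDecEq.{ku0} = @_root_.Cfsg.Agent.KO3be2232.k26.{ku0} := by delta _root_.Cfsg.Agent.KO3be2232.k26; funext a0 a1 a2 a3; refine (congrFun (_root_.Cfsg.Agent.KO3be2232.e0 (fun a2 a3 => @List.hasDecEq.{ku0} a0 a1 a2 a3) ?_ (fun c0 c1 => ?_) a2) a3 :) <;> [(funext b0; (cases b0 with | @nil  => (rfl') | @cons b0_0 b0_1 => (rfl'))); (funext b0; (cases b0 with | @nil  => (rfl') | @cons b0_0 b0_1 => (rfl')))]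
private noncomputable def _root_.Cfsg.Agent.KO3be2232.k27.{ku0} : type_of% @instDecidableEqList.{ku0} := @(fun x0 x1 x2 x3 => @List.rec.{1, ku0} @x0 @(fun x4 => @Decidable (@Eq.{(ku0+1)} _ @x4 @x3)) (@List.rec.{1, ku0} @x0 @(fun x4 => @Decidable (@Eq.{(ku0+1)} _ [] @x4)) (@Decidable.isTrue _ (@List.hasDecEq._proof_1.{ku0} _)) @(fun x4 x5 x6 => @Decidable.isFalse _ (@List.hasDecEq._proof_3.{ku0} _ @x4 @x5)) @x3) @(fun x4 x5 x6 => @List.rec.{1, ku0} @x0 @(fun x7 => @Decidable (@Eq.{(ku0+1)} _ (@x4 :: @x5) @x7)) (@Decidable.isFalse _ (@List.hasDecEq._proof_2.{ku0} _ @x4 @x5)) @(fun x7 x8 x9 => @Decidable.rec.{1} _ @(fun x10 => @Decidable (@Eq.{(ku0+1)} _ (@x4 :: @x5) (@x7 :: @x8))) @(fun x10 => @Decidable.isFalse _ (@List.hasDecEq._proof_6.{ku0} _ @x4 @x5 @x7 @x8 @x10)) @(fun x10 => @Decidable.rec.{1} _ @(fun x11 => @Decidable (@Eq.{(ku0+1)} _ (@x4 :: @x5) (@x7 :: @x8))) @(fun x11 => @Decidable.isFalse _ (@List.hasDecEq._proof_5.{ku0} _ @x4 @x5 @x7 @x8 @x11)) @(fun x11 => @Decidable.isTrue _ (@List.hasDecEq._proof_4.{ku0} _ @x4 @x5 @x7 @x8 @x10 @x11)) (@Cfsg.Agent.KO3be2232.k26.{ku0}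 _ @x1 @x5 @x8)) (@x1 @x4 @x7)) @x3) @x2)
private theorem _root_.Cfsg.Agent.KO3be2232.e27.{ku0} : @instDecidableEqList.{ku0} = @_root_.Cfsg.Agent.KO3be2232.k27.{ku0} := by delta _root_.Cfsg.Agent.KO3be2232.k27; rewrite [← Cfsg.Agent.KO3be2232.e26.{ku0}]; rfl'
private noncomputable def _root_.Cfsg.Agent.KO3be2232.k28 : type_of% @instDecidableEqNat := @Cfsg.Agent.KO3be2232.k12
private theorem _root_.Cfsg.Agent.KO3be2232.e28 : @instDecidableEqNat = @_root_.Cfsg.Agent.KO3be2232.k28 := by delta _root_.Cfsg.Agent.KO3be2232.k28; rewrite [← Cfsg.Agent.KO3be2232.e12]; rfl'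

theorem mem_R {y : LL} (hy : y ∈ R) : y = 1 ∨ ∃ w ∈ W7, y = wd w := by
  have h1 := (lst6.mem y).1 hy
  obtain ⟨w, hw, rfl⟩ := List.mem_map.1 h1
  have e : W6 = [] :: W7 := by (first | (refine of_decide_eq_true ?_; delta Cfsg.Agent.H134.Syl.F4.W6 Cfsg.Agent.H134.Syl.F4.W5 Cfsg.Agent.H134.Syl.F4.W4 Cfsg.Agent.H134.Syl.F4.W3 Cfsg.Agent.H134.Syl.F4.W2 Cfsg.Agent.H134.Syl.F4.W1 Cfsg.Agent.H134.Syl.F4.W7; rewrite [Cfsg.Agent.KO3be2232.e24, Cfsg.Agent.KO3be2232.e27.{0}, Cfsg.Agent.KO3be2232.e28, Cfsg.Agent.KO3be2232.e3, Cfsg.Agent.KO3be2232.e7.{0}]; decide +kernel) | decide +kernel)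
  rw [e] at hw
  rcases List.mem_cons.1 hw with rfl | hw
  · exact Or.inl wd_nil
  · exact Or.inr ⟨w, hw, rfl⟩

/-- **The intersection.** -/
theorem meet {y : LL} (hy : y ∈ R) (hx : wd x0 * y * (wd x0)⁻¹ ∈ R) : wd x0 * y * (wd x0)⁻¹ = 1 := by
  rcases mem_R hx with h | ⟨w, hw, e⟩
  · exact h
  exfalso
  obtain ⟨w', hw', rfl⟩ := List.mem_map.1 ((lst6.mem y).1 hy)
  have hw6 : w ∈ W6 := List.mem_of_mem_tail hw
  have ok1 := okL_mem ok6 hw6
  have ok2 := okL_mem ok6 hw'
  have ok0 : (x0.all fun r => decide (r < 48)) = true := by decide
  have e1 : wd (x0 ++ w') = wd (w ++ x0) := by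
    rw [wd_append, wd_append, ← e, inv_mul_cancel_right]
  have e2 := key_wd (w := x0 ++ w') (w' := w ++ x0) (by rw [List.all_append, ok0, ok2]; rfl)
    (by rw [List.all_append, ok1, ok0]; rfl) e1
  exact ne_of_disj disj12 (chk_mem chk1 w hw) (chk_mem chk2 w' hw') e2.symm

end Cfsg.Agent.H134.Syl.F4
end

-- part: H134/Syl/F4TwoMain
section
/-!
# `Meet 3 F₄(2)` (helper134, for S2484 and S5760)
-/

set_option autoImplicit false

namespace Cfsg.Agent.H134.Syl.F4

open Cfsg.Lie Cfsg.Agent.FourTwo.Base

theorem meet3_LL : Cfsg.Agent.H903.SylMeet.Meet 3 LL := by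
  have hs := Cfsg.Agent.S1054.result (F := ZMod 2) chevF4 (by simp)
  have h1 : IsSimpleGroup LL := hs.1
  have h2 : ¬ IsMulCommutative LL := hs.2
  have h3 : Fact (Nat.Prime 3) := ⟨by norm_num⟩
  have h4 : Finite LL := inferInstance
  refine H172.SI.meet_of_inner h2 ?_ R (IsPGroup.of_card (n := 6) (by rw [card_R]; norm_num)) ?_ ⟨(wd x0), ?_⟩
  · have h5 := Cfsg.Agent.S2122.result (F := ZMod 2) 2 1 (by simp)
    have h6 : Nat.card (Cfsg.Out LL) = Nat.gcd 2 2 * 1 := h5
    rw [h6]
    norm_num
  · have h5 := Subgroup.card_mul_index R
    rw [card_R, Cfsg.Agent.FourTwo.Perf.card_LL] at h5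
    intro hd
    obtain ⟨k, hk⟩ := hd
    rw [hk] at h5
    omega
  · intro y hy hx
    have := meet hy hx
    have e : y = (wd x0)⁻¹ * (wd x0 * y * (wd x0)⁻¹) * wd x0 := by group
    rw [e, this]
    group

/-- **`Meet 3` for `F₄(2)`.** -/
theorem meet3_F4_two {F : Type} [Field F] [Fintype F] (hF : Fintype.card F = 2) :
    Cfsg.Agent.H903.SylMeet.Meet 3 ↥(Cfsg.Lie.chevF4.group F) := by
  have φ : ZMod 2 ≃+* F := FiniteField.ringEquivOfCardEq (by rw [ZMod.card, hF])
  exact H903.SylMeet.Meet.congr (ChevalleyStructure.FieldIso.groupEquiv chevF4 φ) meet3_LL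

end Cfsg.Agent.H134.Syl.F4
end

private theorem dce_41ca483707dc : _root_.True := by
  try have : _root_.True := by simp only [_root_.Cfsg.Agent.H134.Syl.F4.chk.eq_1]
  try have : _root_.True := by simp only [_root_.Cfsg.Agent.H134.Syl.F4.chk.eq_def]
  try have : _root_.True := by simp only [_root_.Cfsg.Agent.H134.Syl.F4.chk.eq_3]
  try have : _root_.True := by simp only [_root_.Cfsg.Agent.H134.Syl.F4.chk._sparseCasesOn_2.else_eq]
  try have : _root_.True := by simp only [_root_.Cfsg.Agent.H134.Syl.F4.chk.eq_2]
  try have : _root_.True := by simp only [_root_.Cfsg.Agent.H134.Syl.F4.chk._sparseCasesOn_1.else_eq]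
  exact _root_.True.intro
end

-- part: H83/MeetTD4
section
set_option linter.all false
open scoped Cfsg.Agent.FastGrp

-- part: H379/TD/Three
section
/-!
# The 3-elements of `³D₄(2)` on the natural module
-/

set_option autoImplicit false

namespace Cfsg.Agent.H379.TD

open Cfsg.Agent.TypeD4Two Module

/-- word of an element of order 9 -/
def wx : List ℕ := [2, 1, 0]
/-- word of the central involution -/
def wz : List ℕ := [3, 2, 3, 2, 3, 2, 3, 2]
/-- word of the longest element -/
def ww : List ℕ := [2, 4, 2, 4, 2, 4]
/-- word of an element of order 3 -/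
def wx0 : List ℕ := wz ++ ww ++ wz ++ ww
/-- word of a conjugating element -/
def wg : List ℕ := [4, 1, 4, 1, 0, 1, 2, 3]
/-- word of a conjugate of `x0` -/
def wy : List ℕ := wg ++ wx0 ++ wi wg

/-- element of order 9 -/
def x : M := wm wx
/-- element of order 3 with four-dimensional fixed space -/
def x0 : M := wm wx0
/-- conjugate of `x0` -/
def y : M := wm wy

theorem y_eq : y = wm wg * x0 * (wm wg)⁻¹ := by
  rw [y, wy, wm_append, wm_append, wm_wi]
  rfl

theorem x_pow : x ^ 9 = 1 := by
  rw [x, ← wm_wp]; exact wm_one (wv_of (by decide +kernel))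

theorem x0_pow : x0 ^ 3 = 1 := by
  rw [x0, ← wm_wp]; exact wm_one (wv_of (by decide +kernel))

theorem y_pow : y ^ 3 = 1 := by
  have h : y = MulAut.conj (wm wg) x0 := y_eq
  rw [h, ← map_pow, x0_pow, map_one]

theorem x_x0 : x * x0 = x0 * x := by
  rw [x, x0, ← wm_append, ← wm_append]; exact wm_eq (wv_of2 (by decide +kernel))

theorem y_x : y * x = x ^ 4 * x0 ^ 2 * y := by
  rw [x, x0, y]
  simp only [← wm_wp, ← wm_append]
  exact wm_eq (wv_of2 (by decide +kernel))

theorem y_x0 : y * x0 = x ^ 3 * x0 * y := by
  rw [x, x0, y]
  simp only [← wm_wp, ← wm_append]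
  exact wm_eq (wv_of2 (by decide +kernel))

/-- entry of a coded matrix -/
def ent (c : ℕ) (i j : Fin 8) : F8 := F8.ofN (Nat.shiftRight c (3 * (8 * i.1 + j.1)))

/-- The property of 3-elements used below. -/
def Prop3 (w : M) : Prop := (∀ v, ap w v = v → v = 0) ∨ (w ^ 3 = 1 ∧
  ∀ u : M, Commute u w → (∃ k, u ^ (2 ^ k) = 1) → ∀ v, ap w v = v → ap u (ap u v) = v)

theorem Prop3.conj {w : M} (h : Prop3 w) (g : M) : Prop3 (g * w * g⁻¹) := by
  have hv : ∀ v, ap (g * w * g⁻¹) v = v → ap w (ap g⁻¹ v) = ap g⁻¹ v := by
    intro v hv
    have := congrArg (ap g⁻¹) hv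
    rw [ap_mul, ap_mul, ap_inv_ap] at this
    exact this
  rcases h with h | ⟨h1, h2⟩
  · left
    intro v hv'
    have h3 := h _ (hv v hv')
    rw [← ap_ap_inv g v, h3, map_zero]
  · right
    refine ⟨?_, ?_⟩
    · have : g * w * g⁻¹ = MulAut.conj g w := rfl
      rw [this, ← map_pow, h1, map_one]
    · rintro u hu ⟨k, hk⟩ v hv'
      have hc : Commute (g⁻¹ * u * g) w := by
        have := hu.eq
        unfold Commute SemiconjBy
        calc g⁻¹ * u * g * w = g⁻¹ * (u * (g * w * g⁻¹)) * g := by group
          _ = g⁻¹ * ((g * w * g⁻¹) * u) * g := by rw [this]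
          _ = w * (g⁻¹ * u * g) := by group
      have hp : (g⁻¹ * u * g) ^ (2 ^ k) = 1 := by
        have h3 : g⁻¹ * u * g = MulAut.conj g⁻¹ u := by simp
        rw [h3, ← map_pow, hk, map_one]
      have h4 := h2 _ hc ⟨k, hp⟩ _ (hv v hv')
      have h5 := congrArg (ap g) h4
      rw [ap_ap_inv, ← ap_mul, ← ap_mul, ← ap_mul] at h5
      have h6 : g * (g⁻¹ * u * g) * (g⁻¹ * u * g) * g⁻¹ = u * u := by group
      rw [h6, ap_mul] at h5
      exact h5

theorem fix_inv {w : M} {v : V} : ap w⁻¹ v = v ↔ ap w v = v := by
  constructor
  · intro h
    have := congrArg (ap w) h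
    rw [ap_ap_inv] at this
    exact this.symm
  · intro h
    have := congrArg (ap w⁻¹) h
    rw [ap_inv_ap] at this
    exact this.symm

theorem Prop3.inv {w : M} (h : Prop3 w) : Prop3 w⁻¹ := by
  rcases h with h | ⟨h1, h2⟩
  · left
    intro v hv
    exact h v (fix_inv.mp hv)
  · right
    refine ⟨by rw [inv_pow, h1, inv_one], ?_⟩
    intro u hu hk v hv
    exact h2 u (by simpa using hu.inv_right) hk v (fix_inv.mp hv)

end Cfsg.Agent.H379.TD
end

-- part: H379/TD/SylThree
section
/-!
# A Sylow 3-subgroup of `³D₄(2)`
-/

set_option autoImplicit false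

namespace Cfsg.Agent.H379.TD

open Cfsg.Agent.TypeD4Two Module

theorem encF_self (c n : ℕ) : encF (fun k => c / 8 ^ k) n = c % 8 ^ n := by
  induction n with
  | zero => simp [encF, Nat.mod_one]
  | succ n ih => rw [encF, ih, Nat.mod_pow_succ, Nat.mul_comm]

theorem encF_congr {f g : ℕ → ℕ} {n : ℕ} (h : ∀ k < n, f k % 8 = g k % 8) : encF f n = encF g n := by
  induction n with
  | zero => rfl
  | succ n ih => rw [encF, encF, ih fun k hk => h k (by omega), h n (by omega)]

/-- codes are determined by the matrices -/
theorem dec_inj {c c' : ℕ} (h1 : c < 8 ^ 64) (h2 : c' < 8 ^ 64) (h : dec c = dec c') : c = c' := by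
  have key : encF (fun k => c / 8 ^ k) 64 = encF (fun k => c' / 8 ^ k) 64 := by
    apply encF_congr
    intro k hk
    have h3 := congrFun (congrFun h ⟨k / 8, by omega⟩) ⟨k % 8, by omega⟩
    have e : 8 * (k / 8) + k % 8 = k := by omega
    have h4 : (dec c ⟨k / 8, by omega⟩ ⟨k % 8, by omega⟩).v = c / 8 ^ k % 8 := by
      show Nat.shiftRight c (3 * (8 * (k / 8) + k % 8)) % 8 = _
      rw [e, shift_eq]
    have h5 : (dec c' ⟨k / 8, by omega⟩ ⟨k % 8, by omega⟩).v = c' / 8 ^ k % 8 := by
      show Nat.shiftRight c' (3 * (8 * (k / 8) + k % 8)) % 8 = _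
      rw [e, shift_eq]
    rw [← h4, ← h5, h3]
  rw [encF_self, encF_self, Nat.mod_eq_of_lt h1, Nat.mod_eq_of_lt h2] at key
  exact key

theorem lin_inj {c c' : ℕ} (h1 : c < 8 ^ 64) (h2 : c' < 8 ^ 64) (h : lin c = lin c') : c = c' :=
  dec_inj h1 h2 ((Matrix.toLinAlgEquiv' (R := F8) (n := Fin 8)).injective h)

/-- normal form of the elements of the Sylow 3-subgroup -/
def F (i j k : ℕ) : M := x ^ i * x0 ^ j * y ^ k

theorem hxx0 : Commute x x0 := x_x0

theorem y_xpow (i : ℕ) : y * x ^ i = x ^ (4 * i) * x0 ^ (2 * i) * y := by
  induction i with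
  | zero => simp
  | succ i ih =>
    rw [pow_succ, ← mul_assoc, ih, mul_assoc, y_x, Nat.mul_succ, Nat.mul_succ, pow_add, pow_add]
    have h := (hxx0.pow_pow 4 (2 * i)).eq
    calc x ^ (4 * i) * x0 ^ (2 * i) * (x ^ 4 * x0 ^ 2 * y) = x ^ (4 * i) * (x0 ^ (2 * i) * x ^ 4) * x0 ^ 2 * y := by
          simp only [mul_assoc]
      _ = x ^ (4 * i) * (x ^ 4 * x0 ^ (2 * i)) * x0 ^ 2 * y := by rw [h]
      _ = _ := by simp only [mul_assoc]

theorem y_x0pow (i : ℕ) : y * x0 ^ i = x ^ (3 * i) * x0 ^ i * y := by
  induction i with
  | zero => simp
  | succ i ih =>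
    rw [pow_succ, ← mul_assoc, ih, mul_assoc, y_x0, Nat.mul_succ, pow_add]
    have h := (hxx0.pow_pow 3 i).eq
    calc x ^ (3 * i) * x0 ^ i * (x ^ 3 * x0 * y) = x ^ (3 * i) * (x0 ^ i * x ^ 3) * x0 * y := by
          simp only [mul_assoc]
      _ = x ^ (3 * i) * (x ^ 3 * x0 ^ i) * x0 * y := by rw [h]
      _ = _ := by simp only [mul_assoc]

theorem x_mul (i j k : ℕ) : x * F i j k = F (i + 1) j k := by
  unfold F
  rw [pow_succ']
  simp only [mul_assoc]

theorem x0_mul (i j k : ℕ) : x0 * F i j k = F i (j + 1) k := by
  unfold F
  have h := (hxx0.pow_left i).eq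
  calc x0 * (x ^ i * x0 ^ j * y ^ k) = (x0 * x ^ i) * x0 ^ j * y ^ k := by simp only [mul_assoc]
    _ = x ^ i * x0 * x0 ^ j * y ^ k := by rw [h]
    _ = _ := by rw [pow_succ']; simp only [mul_assoc]

theorem y_mul (i j k : ℕ) : y * F i j k = F (4 * i + 3 * j) (2 * i + j) (k + 1) := by
  unfold F
  have h := (hxx0.pow_pow (3 * j) (2 * i)).eq
  calc y * (x ^ i * x0 ^ j * y ^ k) = (y * x ^ i) * x0 ^ j * y ^ k := by simp only [mul_assoc]
    _ = x ^ (4 * i) * x0 ^ (2 * i) * (y * x0 ^ j) * y ^ k := by rw [y_xpow]; simp only [mul_assoc]
    _ = x ^ (4 * i) * (x0 ^ (2 * i) * x ^ (3 * j)) * x0 ^ j * (y * y ^ k) := by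
        rw [y_x0pow]; simp only [mul_assoc]
    _ = x ^ (4 * i) * (x ^ (3 * j) * x0 ^ (2 * i)) * x0 ^ j * y ^ (k + 1) := by rw [h, pow_succ']
    _ = _ := by rw [pow_add x, pow_add x0]; simp only [mul_assoc]

theorem F_mod (i j k : ℕ) : F i j k = F (i % 9) (j % 3) (k % 3) := by
  unfold F
  rw [pow_eq_pow_mod i x_pow, pow_eq_pow_mod j x0_pow, pow_eq_pow_mod k y_pow]

/-- the Sylow 3-subgroup -/
def K3 : Subgroup M := Subgroup.closure {x, x0, y}

theorem form {g : M} (hg : g ∈ K3) : ∃ i j k, g = F i j k := by
  have hx : ∀ g : M, (∃ i j k, g = F i j k) → ∃ i j k, x * g = F i j k := by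
    rintro g ⟨i, j, k, rfl⟩
    exact ⟨_, _, _, x_mul i j k⟩
  have hx0 : ∀ g : M, (∃ i j k, g = F i j k) → ∃ i j k, x0 * g = F i j k := by
    rintro g ⟨i, j, k, rfl⟩
    exact ⟨_, _, _, x0_mul i j k⟩
  have hy : ∀ g : M, (∃ i j k, g = F i j k) → ∃ i j k, y * g = F i j k := by
    rintro g ⟨i, j, k, rfl⟩
    exact ⟨_, _, _, y_mul i j k⟩
  have hpow : ∀ (a : M), (∀ g : M, (∃ i j k, g = F i j k) → ∃ i j k, a * g = F i j k) →
      ∀ n : ℕ, ∀ g : M, (∃ i j k, g = F i j k) → ∃ i j k, a ^ n * g = F i j k := by
    intro a ha n
    induction n with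
    | zero => intro g hg; simpa using hg
    | succ n ih =>
      intro g hg
      rw [pow_succ, mul_assoc]
      exact ih _ (ha g hg)
  have hinv : ∀ (a : M), (∀ g : M, (∃ i j k, g = F i j k) → ∃ i j k, a * g = F i j k) →
      ∀ g : M, (∃ i j k, g = F i j k) → ∃ i j k, a⁻¹ * g = F i j k := by
    intro a ha g hg
    have h1 : a⁻¹ = a ^ (orderOf a - 1) := by
      rw [inv_eq_iff_mul_eq_one, ← pow_succ', Nat.sub_add_cancel (orderOf_pos a), pow_orderOf_eq_one]
    rw [h1]
    exact hpow a ha _ g hg
  unfold K3 at hg
  induction hg using Subgroup.closure_induction_left with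
  | one => exact ⟨0, 0, 0, by simp [F]⟩
  | mul_left a ha b _ ih =>
    rcases ha with rfl | rfl | rfl
    · exact hx _ ih
    · exact hx0 _ ih
    · exact hy _ ih
  | inv_mul_cancel a ha b _ ih =>
    rcases ha with rfl | rfl | rfl
    · exact hinv _ hx _ ih
    · exact hinv _ hx0 _ ih
    · exact hinv _ hy _ ih

theorem F_mem (i j k : ℕ) : F i j k ∈ K3 := by
  have h : ∀ g ∈ ({x, x0, y} : Set M), g ∈ K3 := fun g hg => Subgroup.subset_closure hg
  exact K3.mul_mem (K3.mul_mem (K3.pow_mem (h x (by simp)) _) (K3.pow_mem (h x0 (by simp)) _))
    (K3.pow_mem (h y (by simp)) _)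

/-- codes of the 81 elements -/
def T3 : List ℕ := [
  0x200000040000008000001000000200000040000008000001,
  0xcc0000c0000001ab80018a0001a000018000000033000030,
  0x640000440000037a4000f84001ea4002e840000019000011,
  0xf40000380000026a8002978001fe4000a8c000003d00000e,
  0xe800008c000002234001f4c003344003998000003a000023,
  0x6800009c000003174002244000be8003e70000001a000027,
  0xd400003c0000019c8002774001738000bb0000003500000f,
  0x2400004c0000009240025940036fc002b380000009000013,
  0xc0000d80000000180000b4000208001b6c0000003000036,
  0x200008040001008000001000000200000040200000040000,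
  0xcc0033c0003001ab80018a0001a000018000cc0000c00000,
  0x640019440011037a4000f84001ea4002e840640000440000,
  0xf4003d38000e026a8002978001fe4000a8c0f40000380000,
  0xe8003a8c002302234001f4c0033440039980e800008c0000,
  0x68001a9c002703174002244000be8003e7006800009c0000,
  0xd400353c000f019c8002774001738000bb00d400003c0000,
  0x2400094c0013009240025940036fc002b3802400004c0000,
  0xc0003d80036000180000b4000208001b6c00c0000d80000,
  0x8000001008000001000000200000040200008040001,
  0x3300003001ab80018a0001a000018000cc0033c00030,
  0x19000011037a4000f84001ea4002e840640019440011,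
  0x3d00000e026a8002978001fe4000a8c0f4003d38000e,
  0x3a00002302234001f4c0033440039980e8003a8c0023,
  0x1a00002703174002244000be8003e70068001a9c0027,
  0x3500000f019c8002774001738000bb00d400353c000f,
  0x9000013009240025940036fc002b3802400094c0013,
  0x3000036000180000b4000208001b6c00c0003d80036,
  0xd7be483cbb41e776292cf0ef348fdb04138ff7683538a88f,
  0x27c0b34e19b0b31abef2278715fbae4caa23e8c5898d2a13,
  0xdef99da51d1c86c8682d76a3174549cb9916836839f5eb6,
  0x23683d04a88e43763990f0cb588fcd381381d4d6483c13c1,
  0xccc5bac12a234b1aacee27bcadfb85c0aa132705334f33b0,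
  0x64369a475ea7d06cb22ad76061744cd8b9a70dd919d90f51,
  0xf4d6753813cfa77610bcf0e46c8fd63c138e23be7d04bb4e,
  0xeb05098f3393fb1a921e27bbb9fbab8caa30cfc0bac219a3,
  0x69d9039d0f76186cb4aad74a51745844b9b665ef9a4651e7,
  0x20d67d0413cee776292cf0ef348fdb04138fd7be483cbb41,
  0xcf053ac333a3b31abef2278715fbae4caa2327c0b34e19b0,
  0x65d91a450f67c86c8682d76a3174549cb9910def99da51d1,
  0xf7be7538bb4f43763990f0cb588fcd38138123683d04a88e,
  0xebc0898e19934b1aacee27bcadfb85c0aa13ccc5bac12a23,
  0x69ef839e51f6d06cb22ad76061744cd8b9a764369a475ea7,
  0xd768083ca881a77610bcf0e46c8fd63c138ef4d6753813cf,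
  0x24c5b34d2a30fb1a921e27bbb9fbab8caa30eb05098f3393,
  0xc3699db5e91186cb4aad74a51745844b9b669d9039d0f76,
  0xf7683538a88fe776292cf0ef348fdb04138f20d67d0413ce,
  0xe8c5898d2a13b31abef2278715fbae4caa23cf053ac333a3,
  0x6836839f5eb6c86c8682d76a3174549cb99165d91a450f67,
  0xd4d6483c13c143763990f0cb588fcd381381f7be7538bb4f,
  0x2705334f33b04b1aacee27bcadfb85c0aa13ebc0898e1993,
  0xdd919d90f51d06cb22ad76061744cd8b9a769ef839e51f6,
  0x23be7d04bb4ea77610bcf0e46c8fd63c138ed768083ca881,
  0xcfc0bac219a3fb1a921e27bbb9fbab8caa3024c5b34d2a30,
  0x65ef9a4651e7186cb4aad74a51745844b9b60c3699db5e91,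
  0xf7be4838bb4143762990f0ef588fdb38138fd4d67d3c13ce,
  0xebc0b38e19b04b1abeee2787adfbaec0aa2327053a4f33a3,
  0x69ef999e51d1d06c862ad76a617454d8b9910dd91ad90f67,
  0xd7683d3ca88ea77639bcf0cb6c8fcd3c138123be7504bb4f,
  0x24c5ba4d2a23fb1aac1e27bcb9fb858caa13cfc089c21993,
  0xc369adb5ea7186cb2aad76051744c44b9a765ef834651f6,
  0x20d6750413cfe776102cf0e4348fd604138ef7680838a881,
  0xcf0509c33393b31a92f227bb15fbab4caa30e8c5b38d2a30,
  0x65d903450f76c86cb482d74a3174589cb9b66836999f5e91,
  0x23683504a88f43762990f0ef588fdb38138ff7be4838bb41,
  0xccc589c12a134b1abeee2787adfbaec0aa23ebc0b38e19b0,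
  0x643683475eb6d06c862ad76a617454d8b99169ef999e51d1,
  0xf4d6483813c1a77639bcf0cb6c8fcd3c1381d7683d3ca88e,
  0xeb05338f33b0fb1aac1e27bcb9fb858caa1324c5ba4d2a23,
  0x69d9199d0f51186cb2aad76051744c44b9a70c369adb5ea7,
  0xd7be7d3cbb4ee776102cf0e4348fd604138e20d6750413cf,
  0x27c0ba4e19a3b31a92f227bb15fbab4caa30cf0509c33393,
  0xdef9ada51e7c86cb482d74a3174589cb9b665d903450f76,
  0xd4d67d3c13ce43762990f0ef588fdb38138f23683504a88f,
  0x27053a4f33a34b1abeee2787adfbaec0aa23ccc589c12a13,
  0xdd91ad90f67d06c862ad76a617454d8b991643683475eb6,
  0x23be7504bb4fa77639bcf0cb6c8fcd3c1381f4d6483813c1,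
  0xcfc089c21993fb1aac1e27bcb9fb858caa13eb05338f33b0,
  0x65ef834651f6186cb2aad76051744c44b9a769d9199d0f51,
  0xf7680838a881e776102cf0e4348fd604138ed7be7d3cbb4e,
  0xe8c5b38d2a30b31a92f227bb15fbab4caa3027c0ba4e19a3,
  0x6836999f5e91c86cb482d74a3174589cb9b60def9ada51e7]

/-- code of an element of the Sylow 3-subgroup -/
def cf (m : ℕ) : ℕ :=
  mulC (mulC (powC (wv wx) (m % 9)) (powC (wv wx0) (m / 9 % 3))) (powC (wv wy) (m / 27))

theorem ap_F (m : ℕ) : ap (F (m % 9) (m / 9 % 3) (m / 27)) = lin (cf m) := by
  unfold F cf
  rw [lin_mulC, lin_mulC, lin_powC, lin_powC, lin_powC, ← ap_wm, ← ap_wm, ← ap_wm, ← ap_pow, ← ap_pow, ← ap_pow]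
  rfl

theorem cf_eq : ∀ m : Fin 81, cf m.1 = T3.getD m.1 0 := by
  unfold cf
  rw [powC_fast, wv_fast, mulC_fast]
  decide +kernel

private noncomputable def _root_.Cfsg.Agent.KOd261725.k3 : type_of% @Nat.decEq := @(fun x0 x1 => @Bool.rec.{1} @(fun x2 => (@Eq.{1} _ (@Nat.beq @x0 @x1) @x2) → @Decidable (@Eq.{1} _ @x0 @x1)) @(fun x2 => @Decidable.isFalse _ (@Nat.ne_of_beq_eq_false _ _ @x2)) @(fun x2 => @Decidable.isTrue _ (@Nat.eq_of_beq_eq_true _ _ @x2)) (@Nat.beq @x0 @x1) (@Eq.refl.{1} _ (@Nat.beq @x0 @x1)))
private theorem _root_.Cfsg.Agent.KOd261725.e3 : @Nat.decEq = @_root_.Cfsg.Agent.KOd261725.k3 := by delta _root_.Cfsg.Agent.KOd261725.k3; rfl'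
private noncomputable def _root_.Cfsg.Agent.KOd261725.k4 : type_of% @instDecidableEqNat := @Cfsg.Agent.KOd261725.k3
private theorem _root_.Cfsg.Agent.KOd261725.e4 : @instDecidableEqNat = @_root_.Cfsg.Agent.KOd261725.k4 := by delta _root_.Cfsg.Agent.KOd261725.k4; rewrite [← Cfsg.Agent.KOd261725.e3]; rfl'
private noncomputable def _root_.Cfsg.Agent.KOd261725.k5 : type_of% @Decidable.decide := @(fun x0 x1 => @Decidable.rec.{1} _ @(fun x2 => @Bool) @(fun x2 => @Bool.false) @(fun x2 => @Bool.true) @x1)
private theorem _root_.Cfsg.Agent.KOd261725.e5 : @Decidable.decide = @_root_.Cfsg.Agent.KOd261725.k5 := by delta _root_.Cfsg.Agent.KOd261725.k5; rfl'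
private theorem _root_.Cfsg.Agent.KOd261725.e14.{ku, kv} {α : Type kv} {M : List α → Sort ku} (φ : ∀ l, M l) {z : M List.nil} {s : ∀ a l, M l → M (List.cons a l)} (h0 : φ List.nil = z) (hs : ∀ a l, φ (List.cons a l) = s a l (φ l)) (l : List α) : φ l = @List.rec α M z s l := List.rec h0 (fun a l ih => (hs a l).trans (congrArg (s a l) ih)) l
private noncomputable def _root_.Cfsg.Agent.KOd261725.k28.{ku0} : type_of% @List.decidableBAll.{ku0} := @(fun x0 x1 x2 x3 => @List.rec.{1, ku0} @x0 @(fun x4 => @Decidable ((x5 : @x0) → (@Membership.mem.{ku0, ku0} _ _ _ @x4 @x5) → @x1 @x5)) (@Decidable.isTrue _ (@List.decidableBAll._proof_1.{ku0} _ @x1)) @(fun x4 x5 x6 => @Decidable.rec.{1} _ @(fun x7 => @Decidable ((x8 : @x0) → (@Membership.mem.{ku0, ku0} _ _ _ (@x4 :: @x5) @x8) → @x1 @x8)) @(fun x7 => @Decidable.isFalse _ (@List.decidableBAll._proof_4.{ku0} _ @x1 @x4 @x5 @x7)) @(fun x7 => @Decidable.rec.{1} _ @(fun x8 => @Decidable ((x9 : @x0) → (@Membership.mem.{ku0, ku0} _ _ _ (@x4 :: @x5) @x9) → @x1 @x9)) @(fun x8 => @Decidable.isFalse _ (@List.decidableBAll._proof_3.{ku0} _ @x1 @x4 @x5 @x8))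 @(fun x8 => @Decidable.isTrue _ (@List.decidableBAll._proof_2.{ku0} _ @x1 @x4 @x5 @x7 @x8)) @x6) (@x2 @x4)) @x3)
private theorem _root_.Cfsg.Agent.KOd261725.e28.{ku0} : @List.decidableBAll.{ku0} = @_root_.Cfsg.Agent.KOd261725.k28.{ku0} := by delta _root_.Cfsg.Agent.KOd261725.k28; funext a0 a1 a2 a3; refine (_root_.Cfsg.Agent.KOd261725.e14 (fun a3 => @List.decidableBAll.{ku0} a0 a1 a2 a3) ?_ (fun c0 c1 => ?_) a3 :) <;> (rfl')
private noncomputable def _root_.Cfsg.Agent.KOd261725.k29.{ku0} : type_of% @List.instDecidablePairwise.{ku0} := @(fun x0 x1 x2 x3 => @List.rec.{1, ku0} @x0 @(fun x4 => @Decidable (@List.Pairwise.{ku0} _ @x1 @x4)) (@Decidable.isTrue _ (@List.Pairwise.nil.{ku0} _ _)) @(fun x4 x5 x6 => @Decidable.rec.{1} _ @(fun x7 => @Decidable (@List.Pairwise.{ku0} _ @x1 (@x4 :: @x5))) @(fun x7 => @Decidable.isFalse _ (@List.instDecidablePairwise._proof_3.{ku0} _ _ @x4 @x5 @x7)) @(fun x7 => @Decidable.rec.{1} _ @(fun x8 => @Decidable (@List.Pairwise.{ku0} _ @x1 (@x4 :: @x5))) @(fun x8 => @Decidable.isFalse _ (@List.instDecidablePairwise._proof_1.{ku0} _ _ @x4 @x5 @x8)) @(fun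 x8 => @Decidable.isTrue _ (@List.instDecidablePairwise._proof_2.{ku0} _ _ @x4 @x5 @x7 @x8)) (@Cfsg.Agent.KOd261725.k28.{ku0} _ (@x1 @x4) (@x2 @x4) @x5)) @x6) @x3)
private theorem _root_.Cfsg.Agent.KOd261725.e29.{ku0} : @List.instDecidablePairwise.{ku0} = @_root_.Cfsg.Agent.KOd261725.k29.{ku0} := by delta _root_.Cfsg.Agent.KOd261725.k29; rewrite [← Cfsg.Agent.KOd261725.e28.{ku0}]; funext a0 a1 a2 a3; refine (_root_.Cfsg.Agent.KOd261725.e14 (fun a3 => @List.instDecidablePairwise.{ku0} a0 a1 a2 a3) ?_ (fun c0 c1 => ?_) a3 :) <;> (rfl')
private noncomputable def _root_.Cfsg.Agent.KOd261725.k30.{ku0} : type_of% @List.nodupDecidable.{ku0} := @(fun x0 x1 => @Cfsg.Agent.KOd261725.k29.{ku0} _ @(fun x2 x3 => @Ne.{(ku0+1)} _ @x2 @x3) @(fun x2 x3 => @Decidable.rec.{1} _ @(fun x4 => @Decidable (¬ (@Eq.{(ku0+1)} _ @x2 @x3))) @(fun x4 => @Decidable.isTrue _ @x4) @(fun x4 => @Decidable.isFalse _ (@absurd.{0} _ _ @x4)) (@x1 @x2 @x3)))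
private theorem _root_.Cfsg.Agent.KOd261725.e30.{ku0} : @List.nodupDecidable.{ku0} = @_root_.Cfsg.Agent.KOd261725.k30.{ku0} := by delta _root_.Cfsg.Agent.KOd261725.k30; rewrite [← Cfsg.Agent.KOd261725.e29.{ku0}]; rfl'

theorem T3_nodup : T3.Nodup := by (first | (refine of_decide_eq_true ?_; rewrite [Cfsg.Agent.KOd261725.e5, Cfsg.Agent.KOd261725.e30.{0}, Cfsg.Agent.KOd261725.e4]; decide +kernel) | decide +kernel)

theorem T3_lt : ∀ c ∈ T3, c < 8 ^ 64 := by decide +kernel

theorem T3_length : T3.length = 81 := by decide +kernel

theorem card_K3 : Nat.card K3 = 3 ^ 4 := by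
  apply le_antisymm
  · have h : Function.Surjective fun m : Fin 81 =>
        (⟨F (m.1 % 9) (m.1 / 9 % 3) (m.1 / 27), F_mem _ _ _⟩ : K3) := by
      rintro ⟨g, hg⟩
      obtain ⟨i, j, k, rfl⟩ := form hg
      refine ⟨⟨i % 9 + 9 * (j % 3) + 27 * (k % 3), by omega⟩, ?_⟩
      apply Subtype.ext
      show F _ _ _ = F i j k
      rw [F_mod i j k]
      congr 1 <;> simp only <;> omega
    have := Nat.card_le_card_of_surjective _ h
    simpa using this
  · have h : Function.Injective fun m : Fin 81 =>
        (⟨F (m.1 % 9) (m.1 / 9 % 3) (m.1 / 27), F_mem _ _ _⟩ : K3) := by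
      intro m m' hm
      have h1 : F (m.1 % 9) (m.1 / 9 % 3) (m.1 / 27) = F (m'.1 % 9) (m'.1 / 9 % 3) (m'.1 / 27) :=
        congrArg Subtype.val hm
      have h2 : lin (cf m.1) = lin (cf m'.1) := by rw [← ap_F, ← ap_F, h1]
      have hl : ∀ m : Fin 81, cf m.1 = T3[m.1]'(by rw [T3_length]; exact m.2) := by
        intro m
        rw [cf_eq m]
        exact List.getD_eq_getElem _ _ _
      have hlt : ∀ m : Fin 81, cf m.1 < 8 ^ 64 := by
        intro m
        rw [hl m]
        exact T3_lt _ (List.getElem_mem _)
      have h3 := lin_inj (hlt m) (hlt m') h2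
      rw [hl m, hl m'] at h3
      exact Fin.ext ((T3_nodup.getElem_inj_iff).mp h3)
    have := Nat.card_le_card_of_injective _ h
    simpa using this

end Cfsg.Agent.H379.TD
end

-- part: H83/MeetTD4
section
/-!
helper83, task 2131 (helper172; S2484, S5760): every 3-subgroup of `Aut(³D₄(2))` meets a conjugate of itself trivially.

Kernel certificate in the model of helper379 (`8 × 8` matrices over the field with eight elements): `K3` is a Sylow
3-subgroup of order 81, `psi` a conjugate of the field automorphism of order three normalising it, and the conjugating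
element is the generator `gt`.
-/

set_option autoImplicit false

namespace Cfsg.Agent.H83.MeetTD4

open Cfsg.Agent.TypeD4Two Cfsg.Agent.H379.TD Cfsg.Agent.H903.SylMeet

/-! ### the Frobenius map -/

/-- squaring -/
def sq : F8 →+* F8 where
  toFun a := a * a
  map_one' := by decide +kernel
  map_mul' := by decide +kernel
  map_zero' := by decide +kernel
  map_add' := by decide +kernel

theorem sq3 : ∀ a : F8, sq (sq (sq a)) = a := by decide +kernel

/-- linear maps to matrices -/
def μ : Module.End F8 V →+* Matrix (Fin 8) (Fin 8) F8 := (LinearMap.toMatrixAlgEquiv' (R := F8) (n := Fin 8)).toRingHom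

theorem μτ (A : Matrix (Fin 8) (Fin 8) F8) : μ (τ A) = A :=
  LinearMap.toMatrixAlgEquiv'_toLinAlgEquiv' A

theorem τμ (f : Module.End F8 V) : τ (μ f) = f :=
  Matrix.toLinAlgEquiv'_toMatrixAlgEquiv' f

/-- the Frobenius map on linear maps -/
def frE : Module.End F8 V →+* Module.End F8 V := τ.comp (sq.mapMatrix.comp μ)

theorem frE_lin {c c' : ℕ} (h : ∀ i j : Fin 8, ent c i j * ent c i j = ent c' i j) : frE (lin c) = lin c' := by
  show τ (sq.mapMatrix (μ (τ (dec c)))) = τ (dec c')
  rw [μτ]
  congr 1
  ext i j
  exact h i j

theorem frE3 (f : Module.End F8 V) : frE (frE (frE f)) = f := by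
  show τ (sq.mapMatrix (μ (τ (sq.mapMatrix (μ (τ (sq.mapMatrix (μ f)))))))) = f
  rw [μτ, μτ]
  have : sq.mapMatrix (sq.mapMatrix (sq.mapMatrix (μ f))) = μ f := by
    ext i j
    exact sq3 (μ f i j)
  rw [this, τμ]

/-- the Frobenius map on invertible maps -/
def frU : GLV →* GLV := Units.map (frE : Module.End F8 V →* Module.End F8 V)

theorem frU3 (g : GLV) : frU (frU (frU g)) = g := Units.ext (frE3 g.val)

/-- image of a letter -/
def fl : ℕ → List ℕ
  | 0 => [0, 0]
  | 5 => [5, 5]
  | n => [n]

theorem frU_gen (k : ℕ) : frU (genU k) = wu (fl k) := by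
  have key : ∀ k, (∀ i j : Fin 8, ent (genC k) i j * ent (genC k) i j = ent (wv (fl k)) i j) →
      frU (genU k) = wu (fl k) := by
    intro k hk
    apply Units.ext
    rw [val_wu]
    exact frE_lin hk
  match k with
  | 0 => exact key 0 (by rw [wv_fast]; decide +kernel)
  | 1 => exact key 1 (by rw [wv_fast]; decide +kernel)
  | 2 => exact key 2 (by rw [wv_fast]; decide +kernel)
  | 3 => exact key 3 (by rw [wv_fast]; decide +kernel)
  | 4 => exact key 4 (by rw [wv_fast]; decide +kernel)
  | 5 => exact key 5 (by rw [wv_fast]; decide +kernel)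
  | (n + 6) =>
    apply Units.ext
    show frE (lin oneC) = lin oneC * 1
    rw [lin_one, map_one, mul_one]

/-- image of a word -/
def fw : List ℕ → List ℕ
  | [] => []
  | k :: l => fl k ++ fw l

theorem frU_wu (l : List ℕ) : frU (wu l) = wu (fw l) := by
  induction l with
  | nil => exact map_one frU
  | cons k l ih => rw [wu, map_mul, frU_gen, ih, fw, wu_append]

theorem frU_mem {g : GLV} (hg : g ∈ M) : frU g ∈ M := by
  have key : ∀ l : List ℕ, wu l ∈ (M.comap frU : Set GLV) := by
    intro l
    rw [SetLike.mem_coe, Subgroup.mem_comap, frU_wu]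
    exact wu_mem _
  have h : Subgroup.closure {gd, ge, gn, ga, gt} ≤ M.comap frU := by
    rw [Subgroup.closure_le]
    exact Set.insert_subset (key _) (Set.insert_subset (key _) (Set.insert_subset (key _)
      (Set.insert_subset (key _) (Set.singleton_subset_iff.mpr (key _)))))
  exact Subgroup.mem_comap.mp (h hg)

/-- the field automorphism -/
def phi : MulAut M where
  toFun g := ⟨frU g.1, frU_mem g.2⟩
  invFun g := ⟨frU (frU g.1), frU_mem (frU_mem g.2)⟩
  left_inv g := Subtype.ext (frU3 g.1)
  right_inv g := Subtype.ext (frU3 g.1)
  map_mul' g h := Subtype.ext (map_mul frU g.1 h.1)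

theorem phi_wm (l : List ℕ) : phi (wm l) = wm (fw l) := Subtype.ext (frU_wu l)

theorem phi3 (g : M) : phi (phi (phi g)) = g := Subtype.ext (frU3 g.1)

/-- word of the conjugating element -/
def wd : List ℕ := [1, 5, 1, 0, 0]

/-- the outer automorphism normalising the Sylow 3-subgroup -/
def psi : MulAut M := MulAut.conj (wm wd) * phi

theorem psi_apply (g : M) : psi g = wm wd * phi g * (wm wd)⁻¹ := rfl

theorem psi_wm (l : List ℕ) : psi (wm l) = wm (wd ++ fw l ++ wi wd) := by
  rw [psi_apply, phi_wm, wm_append, wm_append, wm_wi]

theorem wd3 : wm wd * phi (wm wd) * phi (phi (wm wd)) = 1 := by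
  rw [phi_wm, phi_wm, ← wm_append, ← wm_append]
  have e : wd ++ fw wd ++ fw (fw wd) = [1, 5, 1, 0, 0, 1, 5, 5, 1, 0, 0, 0, 0, 1, 5, 5, 5, 5, 1, 0, 0, 0, 0, 0, 0,
      0, 0] := by decide +kernel
  rw [e]
  exact wm_one (wv_of (by decide +kernel))

theorem psi3 : psi ^ 3 = 1 := by
  ext1 g
  show psi (psi (psi g)) = g
  rw [psi_apply, psi_apply, psi_apply]
  simp only [map_mul, map_inv]
  rw [phi3]
  calc _ = (wm wd * phi (wm wd) * phi (phi (wm wd))) * g * (wm wd * phi (wm wd) * phi (phi (wm wd)))⁻¹ := by group
    _ = g := by rw [wd3]; group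

theorem psi_x : psi x = x ^ 7 := by
  rw [x, psi_wm, ← wm_wp]
  have e : wd ++ fw wx ++ wi wd = [1, 5, 1, 0, 0, 2, 1, 0, 0, 5, 5, 1, 0, 1] := by decide +kernel
  rw [e]; exact wm_eq (wv_of2 (by decide +kernel))

theorem psi_x0 : psi x0 = x0 := by
  rw [x0, psi_wm]
  have e : wd ++ fw wx0 ++ wi wd = [1, 5, 1, 0, 0, 3, 2, 3, 2, 3, 2, 3, 2, 2, 4, 2, 4, 2, 4, 3, 2, 3, 2, 3, 2, 3, 2,
      2, 4, 2, 4, 2, 4, 5, 5, 1, 0, 1] := by decide +kernel
  rw [e]; exact wm_eq (wv_of2 (by decide +kernel))

/-- word of the image of the last generator of the Sylow 3-subgroup -/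
def wy' : List ℕ := [1, 5, 1, 0, 0, 4, 1, 4, 1, 0, 0, 1, 2, 3, 3, 2, 3, 2, 3, 2, 3, 2, 2, 4, 2, 4, 2,
      4, 3, 2, 3, 2, 3, 2, 3, 2, 2, 4, 2, 4, 2, 4, 3, 2, 1, 5, 5, 1, 4, 1, 4, 5, 5, 1, 0, 1]

theorem wy'_eq : wd ++ fw wy ++ wi wd = wy' := by decide +kernel

theorem wv_wy' : wv wy' = wv wy := wv_of2 (by decide +kernel)

theorem psi_y : psi y = y := by
  have h1 : psi (wm wy) = wm wy' := by rw [psi_wm, wy'_eq]
  have h2 : wm wy' = wm wy := wm_eq wv_wy'
  exact h1.trans h2

theorem psi_mem {g : M} (hg : g ∈ K3) : psi g ∈ K3 := by
  have hs : ∀ g ∈ ({x, x0, y} : Set M), g ∈ K3 := fun g hg => Subgroup.subset_closure hg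
  have key : ∀ g ∈ Subgroup.closure ({x, x0, y} : Set M), psi g ∈ K3 := by
    intro g hg
    induction hg using Subgroup.closure_induction with
    | mem g hg =>
      simp only [Set.mem_insert_iff, Set.mem_singleton_iff] at hg
      rcases hg with hg | hg | hg
      · rw [hg, psi_x]; exact K3.pow_mem (hs x (by simp)) 7
      · rw [hg, psi_x0]; exact hs x0 (by simp)
      · rw [hg, psi_y]; exact hs y (by simp)
    | one => rw [map_one]; exact K3.one_mem
    | mul a b _ _ ha hb => rw [map_mul]; exact K3.mul_mem ha hb
    | inv a _ ha => rw [map_inv]; exact K3.inv_mem ha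
  exact key g hg

/-! ### the certificates -/

/-- codes of the conjugates of the 81 elements -/
def A3 : List ℕ := [
  0x200000040000008000001000000200000040000008000001,
  0xc180000c2a30c000000c0a000c20000001830c0000000180,
  0x608000187a084080000478080c6a080000c1146808000081,
  0xe28000106a102300001416300c7e080001c5042818000046,
  0xe100001022288180000c74181834080001c21c1830000103,
  0x610000181628838000102408043e100000c21c6620000107,
  0xc280000c1c10238000107628087230000185043a20000047,
  0x208000041208418000105828186e38000041143230000083,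
  0x18000000030c30000000a280020100000030c3618000186,
  0x200040040000008001001000000200200000000008008000,
  0xc181830c2a30c001800c0a000c2000c180000c0000c00000,
  0x6080c1187a084080810478080c6a08608000146808408000,
  0xe281c5106a102300461416300c7e08e28000042818230000,
  0xe101c21022288181030c7418183408e100001c1830818000,
  0x6100c2181628838107102408043e106100001c6620838000,
  0xc281850c1c10238047107628087230c28000043a20238000,
  0x208041041208418083105828186e38208000143230418000,
  0x18003000030c30186000a280020100180000c3618c30000,
  0x40040000000001001000000200200040000008008001,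
  0x1830c2a300001800c0a000c2000c181830c0000c00180,
  0xc1187a080000810478080c6a086080c1146808408081,
  0x1c5106a100000461416300c7e08e281c5042818230046,
  0x1c21022280001030c7418183408e101c21c1830818103,
  0xc2181628000107102408043e106100c21c6620838107,
  0x1850c1c10000047107628087230c28185043a20238047,
  0x41041208000083105828186e38208041143230418083,
  0x3000030000186000a280020100180030c3618c30186,
  0xdebe48f8f74127ba2925f15f268efbfae985009277272857,
  0x3cc193ba1bd65199b0f226370efb76e5447145ab0389aa83,
  0xdeef1c16c16d350b994576a2a748c61361387b8b19bdf96,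
  0x3869c55877c104a85686705b470e7dc6d648231231239239,
  0xc5c5f2591b54c82b03f1a7f4adfa353885a3c42a8359b3b0,
  0x60b6d2c26d9258df1735572868744c0dd8e1c73937cb0ea9,
  0xe6d78db8f68023127fa7f11c658ebe3c3fcd23927604ba6e,
  0xf90461fb1a9299b2b313a7f3af7b73ddc1d285ab80d01933,
  0x6d5823036d948b8faeb5566a4a74c86ceef244b9b650d13f,
  0x2457cdf8f74100927e25f15f268efbdebe4800927727ba29,
  0xd985e2ba1bd6d83333f226370efb763cc19345ab035199b0,
  0x6cd8e2c16c16488f2f94576a2a748c0deef187b8b1d350b9,
  0xfebf8d5877c1273a6f86705b470e7d3869c523123104a856,
  0xfd4051591b549198b3f1a7f4adfa35c5c5f2c42a83c82b03,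
  0x6d6e33c26d9293d1be35572868744c60b6d2c7393758df17,
  0xdae840b8f68027a811a7f11c658ebee6d78d23927623127f,
  0x24c5b3fb1a9249ab8013a7f3af7b73f9046185ab8099b2b3,
  0x1b6d1036d94db5e91b5566a4a74c86d582344b9b68b8fae,
  0xfae985f8f74127285725f15f268efb2457cd00927700927e,
  0xe54471ba1bd689aa83f226370efb76d985e245ab03d83333,
  0x613613c16c169bdf9694576a2a748c6cd8e287b8b1488f2f,
  0xc6d6485877c123923986705b470e7dfebf8d231231273a6f,
  0x3885a3591b5459b3b0f1a7f4adfa35fd4051c42a839198b3,
  0xdd8e1c26d92cb0ea935572868744c6d6e33c7393793d1be,
  0x3c3fcdb8f68004ba6ea7f11c658ebedae84023927627a811,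
  0xddc1d2fb1a92d0193313a7f3af7b7324c5b385ab8049ab80,
  0x6ceef2036d9450d13fb5566a4a74c801b6d144b9b6db5e91,
  0xfebe48587741273a2986715f470efbc6d7cd23127723927e,
  0xfd4193591bd69199b0f1a637adfb763885e2c42b0359b333,
  0x6d6ef1c26c1693d0b935576a68748c0dd8e2c738b1cb0f2f,
  0xdae9c5b8f7c127a856a7f05b658e7d3c3f8d23923104ba6f,
  0x24c5f2fb1b5449ab0313a7f4af7a35ddc05185aa83d018b3,
  0x1b6d2036d92db5f17b557284a744c6cee3344b93750d1be,
  0x24578df8f68000927f25f11c268ebefae840009276272811,
  0xd98461ba1a92d832b3f227f30efb73e545b345ab8089ab80,
  0x6cd823c16d94488fae94566a2a74c86136d187b9b69bde91,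
  0x38698558774104a85786715f470efbfebe48231277273a29,
  0xc5c471591bd6c82a83f1a637adfb76fd4193c42b039199b0,
  0x60b613c26c1658df9635576a68748c6d6ef1c738b193d0b9,
  0xe6d648b8f7c1231239a7f05b658e7ddae9c523923127a856,
  0xf905a3fb1b5499b3b013a7f4af7a3524c5f285aa8349ab03,
  0x6d58e1036d928b8ea9b557284a744c01b6d244b937db5f17,
  0xdebfcdf8f68027ba6e25f11c268ebe24578d00927600927f,
  0x3cc1d2ba1a92519933f227f30efb73d9846145ab80d832b3,
  0xdeef2c16d94d3513f94566a2a74c86cd82387b9b6488fae,
  0xc6d7cd58774123927e86715f470efb38698523127704a857,
  0x3885e2591bd659b333f1a637adfb76c5c471c42b03c82a83,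
  0xdd8e2c26c16cb0f2f35576a68748c60b613c738b158df96,
  0x3c3f8db8f7c104ba6fa7f05b658e7de6d648239231231239,
  0xddc051fb1b54d018b313a7f4af7a35f905a385aa8399b3b0,
  0x6cee33036d9250d1beb557284a744c6d58e144b9378b8ea9,
  0xfae840f8f68027281125f11c268ebedebfcd00927627ba6e,
  0xe545b3ba1a9289ab80f227f30efb733cc1d245ab80519933,
  0x6136d1c16d949bde9194566a2a74c80deef287b9b6d3513f]

/-- codes of the products in the outer coset -/
def B3 : List ℕ := [
  0x2000006400006080009690005f8200037a40387a0800a8d9,
  0x6180003bec30c00000970a00c8a00000a8ebac0000014780,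
  0x8000000008208000038208029008000019651208037a59,
  0x6280003ab81003000003d03002840800a8e500001800000e,
  0x210000674c2821800065dc1864ce08037a72665e30037a6b,
  0xa10000cbf828c380003a5e0867ec1001ef72acf220014797,
  0x42800094ce10638000ae182864b43003d2a5392e2000a8d7,
  0x408000956808e18000673628c8523803d299f1f430023deb,
  0xa18000c84630e3000097642838f21001ef6bf31e18023dce,
  0x237a406400006028d99690005f8200200000387a08608000,
  0x6128eb3bec30c14780970a00c8a000618000ac0000c00000,
  0x801900000823fa59038208029008008000651208208000,
  0x6228e53ab81003000e03d030028408628000000018030000,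
  0x227a72674c2822fa6b65dc1864ce08210000665e30218000,
  0xa0ef72cbf828c2c7973a5e0867ec10a10000acf220c38000,
  0x4152a594ce106328d7ae182864b430428000392e20638000,
  0x435299956808e3bdeb673628c85238408000f1f430e18000,
  0xa06f6bc84630e13dce97642838f210a18000f31e18e30000,
  0x37a4064000000a8d99690005f8200237a40387a086028d9,
  0xa8eb3bec30014780970a00c8a0006128ebac0000c14780,
  0x19000008037a5903820802900800801965120823fa59,
  0xa8e53ab81000000e03d0300284086228e500001803000e,
  0x37a72674c28037a6b65dc1864ce08227a72665e3022fa6b,
  0x1ef72cbf8280147973a5e0867ec10a0ef72acf220c2c797,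
  0x3d2a594ce1000a8d7ae182864b4304152a5392e206328d7,
  0x3d299956808023deb673628c85238435299f1f430e3bdeb,
  0x1ef6bc84630023dce97642838f210a06f6bf31e18e13dce,
  0x7a3e484bb199627cf1b8e5cf9a7593903aa5617ce73bd2c7,
  0x893afb8a8f9e2a99b09432a7e4293ed150a9d9506bb417eb,
  0xc5a82901c45ebf96612e10da9e6174c78b7bfa046957b1de,
  0xd1c0e588e31958fa1e5bcd335b5d5d8b564802fce95a06e1,
  0x9178424b1aac54d06bd4600c6729157ab8cbf997ebbd33b0,
  0x660b6221be22b7cb874d2d283cc9b4a2cc39d8b9a7299a71,
  0xabfead0924803a86efd870e4f89af61b6ced62d43e61d426,
  0x1842b9085d227e49dbd5b29be73c1babe8621b6d8009245b,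
  0xa3a34b23c46c085de6cd85daff26c86547421843fe7e2baf,
  0xea04ed4bb19959ae36b8e5cf9a75937a3e48617ce7627cf1,
  0x586a528a8f9e9e8e5b9432a7e4293e893afbd9506b2a99b0,
  0x2235201c45ee827bf2e10da9e6174c5a829fa0469bf9661,
  0x5a96ad88e31902fcff5bcd335b5d5dd1c0e502fce958fa1e,
  0xebc0894b1aace9e3dbd4600c672915917842f997eb54d06b,
  0xc4c75b21be229e51f64d2d283cc9b4660b62d8b9a7b7cb87,
  0xb092400924805b52c9d870e4f89af6abfead62d43e3a86ef,
  0xb3aadb085d22776d80d5b29be73c1b1842b91b6d807e49db,
  0xc6e40923c46c767649cd85daff26c8a3a34b1843fe085de6,
  0x903aa54bb1993bd2c7b8e5cf9a7593ea04ed617ce759ae36,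
  0xd150a98a8f9eb417eb9432a7e4293e586a52d9506b9e8e5b,
  0xc78b7b01c45e57b1de2e10da9e6174022352fa0469e827bf,
  0x8b564888e3195a06e15bcd335b5d5d5a96ad02fce902fcff,
  0x7ab8cb4b1aacbd33b0d4600c672915ebc089f997ebe9e3db,
  0xa2cc3921be22299a714d2d283cc9b4c4c75bd8b9a79e51f6,
  0x1b6ced09248061d426d870e4f89af6b0924062d43e5b52c9,
  0xabe862085d2209245bd5b29be73c1bb3aadb1b6d80776d80,
  0x65474223c46c7e2bafcd85daff26c8c6e4091843fe767649,
  0x5a3e488b319902fcf15b65cf5bf5938884ed02fce75aae36,
  0xe8bafb498f9eea99b0d7b2a767293e796a52f8d06bbf0e5b,
  0xc5282922c45e9f16614f10da3c6174a32352da84692ba7bf,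
  0xb340e50863195bfa1eda4d33f9dd5d1816ad627ce9617cff,
  0xb07842091aac75506bd6600ce5a915ab40891817eb0863db,
  0xc70b6220be22744b87cd2d28fec9b465475b1b39a77d51f6,
  0xe97ead4924805906efba70e49b9af690924061d43e3bd2c9,
  0x58c2b9895d229fc9db94329be6bc1bd22adbdb6d80b76d80,
  0x2234b01c46ceb5de62c85da9f26c8c66409fb43fe56f649,
  0xd2baa58b31995852c75b65cf5bf5935a3e4802fce702fcf1,
  0x91d0a9498f9e5597ebd7b2a767293ee8bafbf8d06bea99b0,
  0x660b7b22c45eb4b1de4f10da3c6174c52829da84699f1661,
  0xab56480863193a86e1da4d33f9dd5db340e5627ce95bfa1e,
  0x1b38cb091aac7d33b0d6600ce5a915b078421817eb75506b,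
  0xa24c3920be22091a71cd2d28fec9b4c70b621b39a7744b87,
  0x79eced49248062d426ba70e49b9af6e97ead61d43e5906ef,
  0x8ae862895d2228a45b94329be6bc1b58c2b9db6d809fc9db,
  0xc4474201c46cbdabaf2c85da9f26c802234bfb43feeb5de6,
  0x8884ed8b31995aae365b65cf5bf593d2baa502fce75852c7,
  0x796a52498f9ebf0e5bd7b2a767293e91d0a9f8d06b5597eb,
  0xa3235222c45e2ba7bf4f10da3c6174660b7bda8469b4b1de,
  0x1816ad086319617cffda4d33f9dd5dab5648627ce93a86e1,
  0xab4089091aac0863dbd6600ce5a9151b38cb1817eb7d33b0,
  0x65475b20be227d51f6cd2d28fec9b4a24c391b39a7091a71,
  0x9092404924803bd2c9ba70e49b9af679eced61d43e62d426,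
  0xd22adb895d22b76d8094329be6bc1b8ae862db6d8028a45b,
  0xc6640901c46c56f6492c85da9f26c8c44742fb43febdabaf]

private noncomputable def _root_.Cfsg.Agent.KOd261725.k6 : (by first | exact type_of% @Cfsg.Agent.H379.TD.fcN | exact Unit : Sort _) := by first | (refine @Subtype.val _ (fun g => @Cfsg.Agent.H379.TD.fcN = @g) (@Subtype.mk _ _ (@(fun x0 x1 => @Nat.rec.{1} @(fun x2 => ℕ) (@x1 (nat_lit 0)) @(fun x2 x3 => @x1 (@Nat.succ @x2)) @x0)) ?_); rfl') | exact @Cfsg.Agent.H379.TD.fcN | exact ()
private theorem _root_.Cfsg.Agent.KOd261725.e6 : (by first | exact @Cfsg.Agent.H379.TD.fcN = @_root_.Cfsg.Agent.KOd261725.k6 | exact True : Prop) := by first | (delta _root_.Cfsg.Agent.KOd261725.k6; exact @Subtype.property _ (fun g => @Cfsg.Agent.H379.TD.fcN = @g) _) | rfl | trivial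
private noncomputable def _root_.Cfsg.Agent.KOd261725.k7 : (by first | exact type_of% @Cfsg.Agent.H379.TD.fmX | exact Unit : Sort _) := by first | (refine @Subtype.val _ (fun g => @Cfsg.Agent.H379.TD.fmX = @g) (@Subtype.mk _ _ (@(fun x0 => @Nat.xor (@Nat.xor (@Nat.shiftLeft (@Nat.land @x0 (nat_lit 2690186458022863184501052609946142749758152333341729076955)) (nat_lit 1)) (@Nat.land (@Nat.shiftRight @x0 (nat_lit 2)) (nat_lit 896728819340954394833684203315380916586050777780576358985))) (@Nat.shiftLeft (@Nat.land (@Nat.shiftRight @x0 (nat_lit 2)) (nat_lit 896728819340954394833684203315380916586050777780576358985)) (nat_lit 1)))) ?_); rfl') | exact @Cfsg.Agent.H379.TD.fmX | exact ()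
private theorem _root_.Cfsg.Agent.KOd261725.e7 : (by first | exact @Cfsg.Agent.H379.TD.fmX = @_root_.Cfsg.Agent.KOd261725.k7 | exact True : Prop) := by first | (delta _root_.Cfsg.Agent.KOd261725.k7; exact @Subtype.property _ (fun g => @Cfsg.Agent.H379.TD.fmX = @g) _) | rfl | trivial
private noncomputable def _root_.Cfsg.Agent.KOd261725.k8 : (by first | exact type_of% @Cfsg.Agent.H379.TD.fmT | exact Unit : Sort _) := by first | (refine @Subtype.val _ (fun g => @Cfsg.Agent.H379.TD.fmT = @g) (@Subtype.mk _ _ (@(fun x0 x1 => @Nat.mul (@Nat.land @x0 (nat_lit 374144441457457674818841471794196260589278699978753)) (@Nat.mod @x1 (nat_lit 16777216)))) ?_); rfl') | exact @Cfsg.Agent.H379.TD.fmT | exact ()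
private theorem _root_.Cfsg.Agent.KOd261725.e8 : (by first | exact @Cfsg.Agent.H379.TD.fmT = @_root_.Cfsg.Agent.KOd261725.k8 | exact True : Prop) := by first | (delta _root_.Cfsg.Agent.KOd261725.k8; exact @Subtype.property _ (fun g => @Cfsg.Agent.H379.TD.fmT = @g) _) | rfl | trivial
private noncomputable def _root_.Cfsg.Agent.KOd261725.k9 : (by first | exact type_of% @Cfsg.Agent.H379.TD.fm3 | exact Unit : Sort _) := by first | (refine @Subtype.val _ (fun g => @Cfsg.Agent.H379.TD.fm3 = @g) (@Subtype.mk _ _ (@(fun x0 x1 x2 x3 x4 x5 => @Nat.xor (@Nat.xor (@Cfsg.Agent.KOd261725.k8 (@Nat.shiftRight @x0 @x4) (@Nat.shiftRight @x1 @x5)) (@Cfsg.Agent.KOd261725.k8 (@Nat.shiftRight @x0 (@Nat.succ @x4)) (@Nat.shiftRight @x2 @x5))) (@Cfsg.Agent.KOd261725.k8 (@Nat.shiftRight @x0 (@Nat.succ (@Nat.succ @x4))) (@Nat.shiftRight @x3 @x5)))) ?_); rewrite [← Cfsg.Agent.KOd261725.e8]; (try delta Cfsg.Agent.H379.TD.fm3); (try generalize @Cfsg.Agent.H379.TD.fmT = g0); rfl') | exact @Cfsg.Agent.H379.TD.fm3 | exact ()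
private theorem _root_.Cfsg.Agent.KOd261725.e9 : (by first | exact @Cfsg.Agent.H379.TD.fm3 = @_root_.Cfsg.Agent.KOd261725.k9 | exact True : Prop) := by first | (delta _root_.Cfsg.Agent.KOd261725.k9; exact @Subtype.property _ (fun g => @Cfsg.Agent.H379.TD.fm3 = @g) _) | rfl | trivial
private noncomputable def _root_.Cfsg.Agent.KOd261725.k10 : (by first | exact type_of% @Cfsg.Agent.H379.TD.fm8 | exact Unit : Sort _) := by first | (refine @Subtype.val _ (fun g => @Cfsg.Agent.H379.TD.fm8 = @g) (@Subtype.mk _ _ (@(fun x0 x1 x2 x3 => @Nat.xor (@Nat.xor (@Nat.xor (@Nat.xor (@Nat.xor (@Nat.xor (@Nat.xor (@Cfsg.Agent.KOd261725.k9 @x0 @x1 @x2 @x3 (nat_lit 0) (nat_lit 0)) (@Cfsg.Agent.KOd261725.k9 @x0 @x1 @x2 @x3 (nat_lit 3) (nat_lit 24))) (@Cfsg.Agent.KOd261725.k9 @x0 @x1 @x2 @x3 (nat_lit 6) (nat_lit 48))) (@Cfsg.Agent.KOd261725.k9 @x0 @x1 @x2 @x3 (nat_lit 9) (nat_lit 72))) (@Cfsg.Agent.KOd261725.k9 @x0 @x1 @x2 @x3 (nat_lit 12) (nat_lit 96))) (@Cfsg.Agent.KOd261725.k9 @x0 @x1 @x2 @x3 (nat_lit 15) (nat_lit 120))) (@Cfsg.Agent.KOd261725.k9 @x0 @x1 @x2 @x3 (nat_lit 18) (nat_lit 144))) (@Cfsg.Agent.KOd261725.k9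 @x0 @x1 @x2 @x3 (nat_lit 21) (nat_lit 168)))) ?_); rewrite [← Cfsg.Agent.KOd261725.e9]; (try delta Cfsg.Agent.H379.TD.fm8); (try generalize @Cfsg.Agent.H379.TD.fm3 = g0); rfl') | exact @Cfsg.Agent.H379.TD.fm8 | exact ()
private theorem _root_.Cfsg.Agent.KOd261725.e10 : (by first | exact @Cfsg.Agent.H379.TD.fm8 = @_root_.Cfsg.Agent.KOd261725.k10 | exact True : Prop) := by first | (delta _root_.Cfsg.Agent.KOd261725.k10; exact @Subtype.property _ (fun g => @Cfsg.Agent.H379.TD.fm8 = @g) _) | rfl | trivial
private noncomputable def _root_.Cfsg.Agent.KOd261725.k11 : (by first | exact type_of% @Cfsg.Agent.H379.TD.fmul | exact Unit : Sort _) := by first | (refine @Subtype.val _ (fun g => @Cfsg.Agent.H379.TD.fmul = @g) (@Subtype.mk _ _ (@(fun x0 x1 => @Cfsg.Agent.KOd261725.k6 @x0 @(fun x2 => @Cfsg.Agent.KOd261725.k6 @x1 @(fun x3 => @Cfsg.Agent.KOd261725.k6 (@Cfsg.Agent.KOd261725.k7 @x3) @(fun x4 => @Cfsg.Agent.KOd261725.k6 (@Cfsg.Agent.KOd261725.k7 @x4) @(fun x5 => @Cfsg.Agent.KOd261725.k10 @x2 @x3 @x4 @x5)))))) ?_); rewrite [← Cfsg.Agent.KOd261725.e10, ← Cfsg.Agent.KOd261725.e7, ← Cfsg.Agent.KOd261725.e6];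 (try delta Cfsg.Agent.H379.TD.fmul); (try generalize @Cfsg.Agent.H379.TD.fcN = g0); (try generalize @Cfsg.Agent.H379.TD.fmX = g1); (try generalize @Cfsg.Agent.H379.TD.fm8 = g2); rfl') | exact @Cfsg.Agent.H379.TD.fmul | exact ()
private theorem _root_.Cfsg.Agent.KOd261725.e11 : (by first | exact @Cfsg.Agent.H379.TD.fmul = @_root_.Cfsg.Agent.KOd261725.k11 | exact True : Prop) := by first | (delta _root_.Cfsg.Agent.KOd261725.k11; exact @Subtype.property _ (fun g => @Cfsg.Agent.H379.TD.fmul = @g) _) | rfl | trivial
private noncomputable def _root_.Cfsg.Agent.KOd261725.k12 : (by first | exact type_of% @Cfsg.Agent.H379.TD.genC | exact Unit : Sort _) := by first | (refine @Subtype.val _ (fun g => @Cfsg.Agent.H379.TD.genC = @g) (@Subtype.mk _ _ (@(fun x0 => @Decidable.rec.{1} _ @(fun x1 => ℕ) @(fun x1 => @Decidable.rec.{1} _ @(fun x2 => ℕ) @(fun x2 => @Decidable.rec.{1} _ @(fun x3 => ℕ) @(fun x3 => @Decidable.rec.{1} _ @(fun x4 => ℕ) @(fun x4 => @Decidable.rec.{1} _ @(fun x5 => ℕ) @(fun x5 => @Decidable.rec.{1} _ @(fun x6 => ℕ) @(fun x6 => @Cfsg.Agent.H379.TD.oneC) @(fun x6 => @Eq.rec.{1,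 1} ℕ (nat_lit 5) @(fun x7 x8 => ℕ) (nat_lit 2353913185846044843716950488464823958937840688507113177094) @x0 (@Eq.symm.{1} _ _ _ @x6)) (@Cfsg.Agent.KOd261725.k3 @x0 (nat_lit 5))) @(fun x5 => @Eq.rec.{1, 1} ℕ (nat_lit 4) @(fun x6 x7 => ℕ) (nat_lit 784637717654086262594069188562343381144902214731876532225) @x0 (@Eq.symm.{1} _ _ _ @x5)) (@Cfsg.Agent.KOd261725.k3 @x0 (nat_lit 4))) @(fun x4 => @Eq.rec.{1, 1} ℕ (nat_lit 3) @(fun x5 x6 => ℕ) (nat_lit 784637722769341688359228641114377033058556097619784925185) @x0 (@Eq.symm.{1} _ _ _ @x4)) (@Cfsg.Agent.KOd261725.k3 @x0 (nat_lit 3))) @(fun x3 => @Eq.rec.{1, 1} ℕ (nat_lit 2) @(fun x4 x5 => ℕ) (nat_lit 98079761383469281608898224550607600664177638665703391240) @x0 (@Eq.symm.{1} _ _ _ @x3)) (@Cfsg.Agent.KOd261725.k3 @x0 (nat_lit 2))) @(fun x2 => @Eq.rec.{1, 1} ℕ (nat_lit 1) @(fun x3 x4 => ℕ) (nat_lit 784637769537394082948124619780875689318562262762985095177) @x0 (@Eq.symm.{1} _ _ _ @x2)) (@Cfsg.Agent.KOd261725.k3 @x0 (nat_lit 1))) @(fun x1 => @Eq.rec.{1, 1} ℕ (nat_lit 0) @(fun x2 x3 => ℕ) (nat_lit 4707826319078030351516106632527457180719769872013860012035)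 @x0 (@Eq.symm.{1} _ _ _ @x1)) (@Cfsg.Agent.KOd261725.k3 @x0 (nat_lit 0)))) ?_); rewrite [← Cfsg.Agent.KOd261725.e3]; (try delta Cfsg.Agent.H379.TD.genC); (try generalize @Cfsg.Agent.H379.TD.oneC = g0); rfl') | exact @Cfsg.Agent.H379.TD.genC | exact ()
private theorem _root_.Cfsg.Agent.KOd261725.e12 : (by first | exact @Cfsg.Agent.H379.TD.genC = @_root_.Cfsg.Agent.KOd261725.k12 | exact True : Prop) := by first | (delta _root_.Cfsg.Agent.KOd261725.k12; exact @Subtype.property _ (fun g => @Cfsg.Agent.H379.TD.genC = @g) _) | rfl | trivial
private noncomputable def _root_.Cfsg.Agent.KOd261725.k22l (n : Nat) (P : ∀ k, k < n → Prop) (H : ∀ k h, Decidable (P k h)) (m : Nat) : m ≤ n → Bool := @Nat.rec (fun m => m ≤ n → Bool) (fun _ => true) (fun k ih h => @Decidable.rec (P k h) (fun _ => Bool) (fun _ => false) (fun _ => ih (Nat.le_of_succ_le h)) (H k h)) m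
private theorem _root_.Cfsg.Agent.KOd261725.k22ls (n : Nat) (P : ∀ k, k < n → Prop) (H : ∀ k h, Decidable (P k h)) (m : Nat) : ∀ h : m ≤ n, _root_.Cfsg.Agent.KOd261725.k22l n P H m h = true ↔ ∀ k (g : k < m), P k (Nat.lt_of_lt_of_le g h) := by induction m with | zero => exact fun _ => ⟨fun _ _ g => absurd g (Nat.not_lt_zero _), fun _ => rfl⟩ | succ m ih => intro h; show @Decidable.rec (P m h) (fun _ => Bool) (fun _ => false) (fun _ => _root_.Cfsg.Agent.KOd261725.k22l n P H m (Nat.le_of_succ_le h)) (H m h) = true ↔ _; cases H m h with | isFalse q => exact ⟨fun g => absurd g Bool.false_ne_true, fun g => absurd (g m (Nat.lt_succ_self m)) q⟩ | isTrue q => exact ⟨fun g k hk => (Nat.lt_succ_iff_lt_or_eq.1 hk).elim ((ih _).1 g k) fun e => by subst e; exact q, fun g => (ih _).2 fun k hk => g k (Nat.lt_succ_of_lt hk)⟩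
private noncomputable def _root_.Cfsg.Agent.KOd261725.k22 (n : Nat) (P : ∀ k, k < n → Prop) (H : ∀ k h, Decidable (P k h)) : Decidable (∀ k h, P k h) := @Bool.rec (fun b => _root_.Cfsg.Agent.KOd261725.k22l n P H n (Nat.le_refl n) = b → Decidable (∀ k h, P k h)) (fun g => isFalse fun q => Bool.false_ne_true (g.symm.trans ((_root_.Cfsg.Agent.KOd261725.k22ls n P H n _).2 fun k h => q k h))) (fun g => isTrue fun k h => (_root_.Cfsg.Agent.KOd261725.k22ls n P H n _).1 g k h) (_root_.Cfsg.Agent.KOd261725.k22l n P H n (Nat.le_refl n)) rfl
private theorem _root_.Cfsg.Agent.KOd261725.e22 : @Nat.decidableBallLT = @_root_.Cfsg.Agent.KOd261725.k22 := funext fun _ => funext fun _ => funext fun _ => Subsingleton.elim _ _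
private noncomputable def _root_.Cfsg.Agent.KOd261725.k23 : type_of% @Nat.decidableForallFin := @(fun x0 x1 x2 => @Decidable.rec.{1} _ @(fun x3 => @Decidable ((x4 : @Fin @x0) → @x1 @x4)) @(fun x3 => @Decidable.isFalse _ (@decidable_of_decidable_of_iff._proof_1 _ _ (@Nat.decidableForallFin._proof_1 _ @x1) @x3)) @(fun x3 => @Decidable.isTrue _ (@Iff.mp _ _ (@Nat.decidableForallFin._proof_1 _ @x1) @x3)) (@Cfsg.Agent.KOd261725.k22 @x0 @(fun x3 x4 => @x1 (@Fin.mk _ @x3 @x4)) @(fun x3 x4 => @x2 (@Fin.mk _ @x3 @x4))))
private theorem _root_.Cfsg.Agent.KOd261725.e23 : @Nat.decidableForallFin = @_root_.Cfsg.Agent.KOd261725.k23 := by delta _root_.Cfsg.Agent.KOd261725.k23; rewrite [← Cfsg.Agent.KOd261725.e22]; rfl'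
private noncomputable def _root_.Cfsg.Agent.KOd261725.k26.{ku0} : type_of% @List.get?Internal.{ku0} := @(fun x0 x1 x2 => @List.rec.{(ku0+1), ku0} @x0 @(fun x3 => ℕ → @Option.{ku0} @x0) @(fun x3 => @Option.none.{ku0} _) @(fun x3 x4 x5 x6 => @Nat.rec.{(ku0+1)} @(fun x7 => @Option.{ku0} @x0) (@Option.some.{ku0} _ @x3) @(fun x7 x8 => @x5 @x7) @x6) @x1 @x2)
private theorem _root_.Cfsg.Agent.KOd261725.e26.{ku0} : @List.get?Internal.{ku0} = @_root_.Cfsg.Agent.KOd261725.k26.{ku0} := by delta _root_.Cfsg.Agent.KOd261725.k26; funext a0 a1 a2; refine (congrFun (_root_.Cfsg.Agent.KOd261725.e14 (fun a1 a2 => @List.get?Internal.{ku0} a0 a1 a2) ?_ (fun c0 c1 => ?_) a1) a2 :) <;> [(funext b0; (rfl')); (funext b0; (cases b0 with | @zero  => (rfl') | @succ b0_0 => (rfl')))]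
private noncomputable def _root_.Cfsg.Agent.KOd261725.k27.{ku0} : type_of% @List.getD.{ku0} := @(fun x0 x1 x2 x3 => @Option.rec.{(ku0+1), ku0} @x0 @(fun x4 => @x0) @x3 @(fun x4 => @x4) (@Cfsg.Agent.KOd261725.k26.{ku0} _ @x1 @x2))
private theorem _root_.Cfsg.Agent.KOd261725.e27.{ku0} : @List.getD.{ku0} = @_root_.Cfsg.Agent.KOd261725.k27.{ku0} := by delta _root_.Cfsg.Agent.KOd261725.k27; rewrite [← Cfsg.Agent.KOd261725.e26.{ku0}]; rfl'

theorem A3_eq : ∀ m : Fin 81, mulC (mulC (genC 4) (T3.getD m.1 0)) (genC 4) = A3.getD m.1 0 := by
  rw [mulC_fast]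
  (first | (refine of_decide_eq_true ?_; rewrite [Cfsg.Agent.KOd261725.e5, Cfsg.Agent.KOd261725.e23, Cfsg.Agent.KOd261725.e4, Cfsg.Agent.KOd261725.e11, Cfsg.Agent.KOd261725.e12, Cfsg.Agent.KOd261725.e27.{0}]; decide +kernel) | decide +kernel)

/-- code of the inverse image of the last generator -/
def cB : ℕ := 0x2000006080006400009690005f8200387a08037a4000a8d9

theorem wv_cB : wv [1, 5, 1, 0, 0, 4, 5, 5, 1, 0, 1] = cB := wv_of (by decide +kernel)

theorem B3_eq : ∀ m : Fin 81, mulC (mulC (genC 4) (T3.getD m.1 0)) cB = B3.getD m.1 0 := by
  rw [mulC_fast]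
  (first | (refine of_decide_eq_true ?_; rewrite [Cfsg.Agent.KOd261725.e5, Cfsg.Agent.KOd261725.e23, Cfsg.Agent.KOd261725.e4, Cfsg.Agent.KOd261725.e11, Cfsg.Agent.KOd261725.e12, Cfsg.Agent.KOd261725.e27.{0}]; decide +kernel) | decide +kernel)

private noncomputable def _root_.Cfsg.Agent.KOd261725.k45 : type_of% @forall_prop_decidable := @(fun x0 x1 x2 x3 => @Decidable.rec.{1} _ @(fun x4 => @Decidable ((x5 : @x0) → @x1 @x5)) @(fun x4 => @Decidable.isTrue _ (@forall_prop_decidable._proof_2 _ @x1 @x4)) @(fun x4 => @Decidable.rec.{1} _ @(fun x5 => @Decidable ((x6 : @x0) → @x1 @x6)) @(fun x5 => @Decidable.isFalse _ (@decidable_of_decidable_of_iff._proof_1 _ _ (@forall_prop_decidable._proof_1 _ @x1 @x4) @x5)) @(fun x5 => @Decidable.isTrue _ (@Iff.mp _ _ (@forall_prop_decidable._proof_1 _ @x1 @x4) @x5)) (@x3 @x4)) @x2)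
private theorem _root_.Cfsg.Agent.KOd261725.e45 : @forall_prop_decidable = @_root_.Cfsg.Agent.KOd261725.k45 := by delta _root_.Cfsg.Agent.KOd261725.k45; rfl'
private noncomputable def _root_.Cfsg.Agent.KOd261725.k46 : type_of% @instDecidableNot := @(fun x0 x1 => @Decidable.rec.{1} _ @(fun x2 => @Decidable (¬ @x0)) @(fun x2 => @Decidable.isTrue _ @x2) @(fun x2 => @Decidable.isFalse _ (@absurd.{0} _ _ @x2)) @x1)
private theorem _root_.Cfsg.Agent.KOd261725.e46 : @instDecidableNot = @_root_.Cfsg.Agent.KOd261725.k46 := by delta _root_.Cfsg.Agent.KOd261725.k46; rfl'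
private noncomputable def _root_.Cfsg.Agent.KOd261725.k47 : type_of% @Bool.decEq := @(fun x0 x1 => @Bool.rec.{1} @(fun x2 => @Decidable (@Eq.{1} _ @x2 @x1)) (@Bool.rec.{1} @(fun x2 => @Decidable (@Eq.{1} _ @Bool.false @x2)) (@Decidable.isTrue _ (@rfl.{1} _ _)) (@Decidable.isFalse _ @(fun x2 => @Bool.noConfusion.{0} _ _ _ @x2)) @x1) (@Bool.rec.{1} @(fun x2 => @Decidable (@Eq.{1} _ @Bool.true @x2)) (@Decidable.isFalse _ @(fun x2 => @Bool.noConfusion.{0} _ _ _ @x2)) (@Decidable.isTrue _ (@rfl.{1} _ _)) @x1) @x0)
private theorem _root_.Cfsg.Agent.KOd261725.e47 : @Bool.decEq = @_root_.Cfsg.Agent.KOd261725.k47 := by delta _root_.Cfsg.Agent.KOd261725.k47; rfl'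
private noncomputable def _root_.Cfsg.Agent.KOd261725.k49.{ku0} : type_of% @List.instDecidableMemOfLawfulBEq.{ku0} := @(fun x0 x1 x2 x3 x4 => @Decidable.rec.{1} _ @(fun x5 => @Decidable (@Membership.mem.{ku0, ku0} _ _ _ @x4 @x3)) @(fun x5 => @Decidable.isFalse _ (@decidable_of_decidable_of_iff._proof_1 _ _ (@List.instDecidableMemOfLawfulBEq._proof_1.{ku0} _ _ _ @x3 @x4) @x5)) @(fun x5 => @Decidable.isTrue _ (@Iff.mp _ _ (@List.instDecidableMemOfLawfulBEq._proof_1.{ku0} _ _ _ @x3 @x4) @x5)) (@Cfsg.Agent.KOd261725.k47 (@List.elem.{ku0} _ @x1 @x3 @x4) @Bool.true))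
private theorem _root_.Cfsg.Agent.KOd261725.e49.{ku0} : @List.instDecidableMemOfLawfulBEq.{ku0} = @_root_.Cfsg.Agent.KOd261725.k49.{ku0} := by delta _root_.Cfsg.Agent.KOd261725.k49; rewrite [← Cfsg.Agent.KOd261725.e47]; rfl'

theorem A3_ne : ∀ m : Fin 81, m.1 ≠ 0 → A3.getD m.1 0 ∉ T3 := by (first | (refine of_decide_eq_true ?_; rewrite [Cfsg.Agent.KOd261725.e5, Cfsg.Agent.KOd261725.e23, Cfsg.Agent.KOd261725.e45, Cfsg.Agent.KOd261725.e46, Cfsg.Agent.KOd261725.e49.{0}, Cfsg.Agent.KOd261725.e27.{0}]; decide +kernel) | decide +kernel)

theorem B3_ne : ∀ m : Fin 81, B3.getD m.1 0 ∉ T3 := by (first | (refine of_decide_eq_true ?_; rewrite [Cfsg.Agent.KOd261725.e5, Cfsg.Agent.KOd261725.e23, Cfsg.Agent.KOd261725.e46, Cfsg.Agent.KOd261725.e49.{0}, Cfsg.Agent.KOd261725.e27.{0}]; decide +kernel) | decide +kernel)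

theorem mulC_lt (a b : ℕ) : mulC a b < 8 ^ 64 := encF_lt _ _

/-- the elements of the Sylow 3-subgroup -/
theorem exists_code {h : M} (hh : h ∈ K3) :
    ∃ m : Fin 81, h = F (m.1 % 9) (m.1 / 9 % 3) (m.1 / 27) ∧ ap h = lin (T3.getD m.1 0) := by
  obtain ⟨i, j, k, rfl⟩ := form hh
  have h1 : F i j k = F ((i % 9 + 9 * (j % 3) + 27 * (k % 3)) % 9) ((i % 9 + 9 * (j % 3) + 27 * (k % 3)) / 9 % 3)
      ((i % 9 + 9 * (j % 3) + 27 * (k % 3)) / 27) := by
    rw [F_mod i j k]
    congr 1 <;> omega
  refine ⟨⟨i % 9 + 9 * (j % 3) + 27 * (k % 3), by omega⟩, h1, ?_⟩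
  rw [h1, ap_F, ← cf_eq ⟨i % 9 + 9 * (j % 3) + 27 * (k % 3), by omega⟩]

theorem T3_mem (m : Fin 81) : T3.getD m.1 0 ∈ T3 := by
  rw [List.getD_eq_getElem _ _ (by rw [T3_length]; exact m.2)]
  exact List.getElem_mem _

theorem ap_mul' (g h : M) : ap (g * h) = ap g * ap h := rfl

/-- inner part -/
theorem inner_part {h : M} (hh : h ∈ K3) (h' : wm [4] * h * (wm [4])⁻¹ ∈ K3) : h = 1 := by
  obtain ⟨m, hm, hc⟩ := exists_code hh
  obtain ⟨m', hm', hc'⟩ := exists_code h'
  have e1 : ap (wm [4] * h * (wm [4])⁻¹) = lin (A3.getD m.1 0) := by
    rw [← wm_wi, ap_mul', ap_mul', hc, ap_wm, ap_wm, ← A3_eq, lin_mulC, lin_mulC]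
    have e2 : wv [4] = genC 4 := wv_of (by decide +kernel)
    have e3 : wv (wi [4]) = genC 4 := wv_of (by decide +kernel)
    rw [e2, e3]
  have e2 : A3.getD m.1 0 = T3.getD m'.1 0 := by
    apply lin_inj
    · rw [← A3_eq]; exact mulC_lt _ _
    · exact T3_lt _ (T3_mem m')
    · rw [← e1, hc']
  by_contra hne
  refine A3_ne m ?_ ?_
  · intro h0
    apply hne
    rw [hm, h0]
    simp [F]
  · rw [e2]; exact T3_mem m'

/-- outer part -/
theorem outer_part {h : M} (hh : h ∈ K3) : wm [4] * h * (psi (wm [4]))⁻¹ ∉ K3 := by
  intro h'
  obtain ⟨m, hm, hc⟩ := exists_code hh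
  obtain ⟨m', hm', hc'⟩ := exists_code h'
  have e0 : (psi (wm [4]))⁻¹ = wm [1, 5, 1, 0, 0, 4, 5, 5, 1, 0, 1] := by
    rw [psi_wm, ← wm_wi]
    have e : wi (wd ++ fw [4] ++ wi wd) = [1, 5, 1, 0, 0, 4, 5, 5, 1, 0, 1] := by decide +kernel
    rw [e]
  have e1 : ap (wm [4] * h * (psi (wm [4]))⁻¹) = lin (B3.getD m.1 0) := by
    rw [e0, ap_mul', ap_mul', hc, ap_wm, ap_wm, ← B3_eq, lin_mulC, lin_mulC, wv_cB]
    have e2 : wv [4] = genC 4 := wv_of (by decide +kernel)
    rw [e2]
  have e2 : B3.getD m.1 0 = T3.getD m'.1 0 := by
    apply lin_inj
    · rw [← B3_eq]; exact mulC_lt _ _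
    · exact T3_lt _ (T3_mem m')
    · rw [← e1, hc']
  refine B3_ne m ?_
  rw [e2]; exact T3_mem m'

/-! ### the 3-subgroup of the automorphism group -/

theorem psi_pow_mem {g : M} (hg : g ∈ K3) (i : ℕ) : (psi ^ i) g ∈ K3 := by
  induction i with
  | zero => simpa using hg
  | succ i ih => rw [pow_succ', MulAut.mul_apply]; exact psi_mem ih

theorem mul_form (h h' : M) (i j : ℕ) :
    MulAut.conj h * psi ^ i * (MulAut.conj h' * psi ^ j) = MulAut.conj (h * (psi ^ i) h') * psi ^ (i + j) := by
  simp only [map_mul, ← conj_apply_aut (psi ^ i) h', pow_add]; group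

theorem psi_pow3 (i : ℕ) : psi ^ (3 * i) = 1 := by rw [pow_mul, psi3, one_pow]

/-- the 3-subgroup -/
def P3 : Subgroup (MulAut M) where
  carrier := {α | ∃ h ∈ K3, ∃ i : ℕ, α = MulAut.conj h * psi ^ i}
  one_mem' := ⟨1, K3.one_mem, 0, by rw [map_one, pow_zero, mul_one]⟩
  mul_mem' := by
    rintro _ _ ⟨h, hh, i, rfl⟩ ⟨h', hh', j, rfl⟩
    exact ⟨_, K3.mul_mem hh (psi_pow_mem hh' i), i + j, mul_form h h' i j⟩
  inv_mem' := by
    rintro _ ⟨h, hh, i, rfl⟩
    refine ⟨(psi ^ (2 * i)) h⁻¹, psi_pow_mem (K3.inv_mem hh) _, 2 * i, ?_⟩
    rw [eq_comm, eq_inv_iff_mul_eq_one, mul_form, ← map_mul, inv_mul_cancel, map_one, map_one, one_mul]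
    have : 2 * i + i = 3 * i := by ring
    rw [this, psi_pow3]



theorem conj_mem {h : M} (hh : h ∈ K3) : MulAut.conj h ∈ P3 := ⟨h, hh, 0, by rw [pow_zero, mul_one]⟩

theorem psi_P3 : psi ∈ P3 := ⟨1, K3.one_mem, 1, by rw [map_one, one_mul, pow_one]⟩

theorem isPGroup_K3 : IsPGroup 3 K3 := IsPGroup.of_card card_K3

theorem isPGroup_P3 : IsPGroup 3 P3 := by
  rintro ⟨α, h, hh, i, rfl⟩
  have key : ∀ n : ℕ, ∃ k ∈ K3, (MulAut.conj h * psi ^ i) ^ n = MulAut.conj k * psi ^ (n * i) := by
    intro n
    induction n with
    | zero => exact ⟨1, K3.one_mem, by simp⟩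
    | succ n ih =>
      obtain ⟨k, hk, e⟩ := ih
      refine ⟨_, K3.mul_mem hk (psi_pow_mem hh (n * i)), ?_⟩
      rw [pow_succ, e, mul_form]
      congr 2
      ring
  obtain ⟨k, hk, e⟩ := key 3
  obtain ⟨m, hm⟩ := isPGroup_K3 ⟨k, hk⟩
  refine ⟨m + 1, Subtype.ext ?_⟩
  show (MulAut.conj h * psi ^ i) ^ 3 ^ (m + 1) = 1
  rw [pow_succ', pow_mul, e, psi_pow3, mul_one, ← map_pow]
  have : k ^ 3 ^ m = 1 := congrArg Subtype.val hm
  rw [this, map_one]

theorem psi_ne {g : M} (hg : g ∈ K3) : psi ≠ MulAut.conj g := by
  intro h
  refine outer_part (K3.inv_mem hg) ?_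
  rw [h, MulAut.conj_apply]
  have : wm [4] * g⁻¹ * (g * wm [4] * g⁻¹)⁻¹ = g⁻¹ := by group
  rw [this]
  exact K3.inv_mem hg

/-! ### orders -/

theorem simple_M : IsSimpleGroup M ∧ ¬ IsMulCommutative M := by
  obtain ⟨e⟩ := iso_M F8 F8.card_F8
  obtain ⟨h1, h2⟩ := S1071.result (K := F8) (q := 2) Nat.prime_two.isPrimePow F8.card_F8
  have := e.toEquiv.nontrivial
  refine ⟨IsSimpleGroup.isSimpleGroup_of_surjective e.symm.toMonoidHom e.symm.surjective, fun h => h2 ⟨⟨fun a b => ?_⟩⟩⟩
  have := h.is_comm.comm (e.symm a) (e.symm b)
  rw [← map_mul, ← map_mul] at this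
  exact e.symm.injective this

theorem card_aut : Nat.card (MulAut M) = 634023936 := by
  obtain ⟨e⟩ := iso_M F8 F8.card_F8
  obtain ⟨h1, h2⟩ := S1071.result (K := F8) (q := 2) Nat.prime_two.isPrimePow F8.card_F8
  have hf : Finite (Cfsg.Lie.twistedD4 F8 2) := Finite.of_equiv M e.toEquiv
  have : Fact (Nat.Prime 2) := ⟨Nat.prime_two⟩
  have : CharP F8 2 := by
    have h : (2 : F8) = 0 := two_F8
    exact CharTwo.of_one_ne_zero_of_two_eq_zero one_ne_zero h
  have h3 := S2129.result (K := F8) 2 1 F8.card_F8 le_rfl
  rw [Nat.card_congr (MulAut.congr e).toEquiv, H172.SI.card_mulAut h2, ← Nat.card_congr e.toEquiv, card_M]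
  have h4 : Nat.card (Cfsg.Out ↥(Cfsg.Lie.twistedD4 F8 2)) = 3 := h3
  rw [h4]

theorem mem_of_conj {m : M} (hm : MulAut.conj m ∈ P3) : m ∈ K3 := by
  have := simple_M.1
  have hinj := conj_injective simple_M.2
  have hR : IsPGroup 3 (P3.comap (MulAut.conj : M →* MulAut M)) := isPGroup_P3.comap_of_injective _ hinj
  have hle : K3 ≤ P3.comap (MulAut.conj : M →* MulAut M) := fun h hh => conj_mem hh
  obtain ⟨k, hk⟩ := IsPGroup.iff_card.1 hR
  have hd := Subgroup.card_subgroup_dvd_card (P3.comap (MulAut.conj : M →* MulAut M))
  rw [hk, card_M] at hd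
  have hk4 : k ≤ 4 := by
    by_contra hc
    have h5 : 3 ^ 5 ∣ 211341312 := (pow_dvd_pow 3 (by omega : 5 ≤ k)).trans hd
    norm_num at h5
  have hc : Nat.card (P3.comap (MulAut.conj : M →* MulAut M)) ≤ Nat.card K3 := by
    rw [hk, card_K3]; exact Nat.pow_le_pow_right (by norm_num) hk4
  have he := Subgroup.eq_of_le_of_card_ge hle hc
  have h1 : m ∈ P3.comap (MulAut.conj : M →* MulAut M) := hm
  rwa [← he] at h1

theorem index_P3 : ¬ 3 ∣ P3.index := by
  have := simple_M.1
  have hinj := conj_injective simple_M.2
  have hQ : Nat.card (K3.map (MulAut.conj : M →* MulAut M)) = 81 := by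
    rw [Subgroup.card_map_of_injective hinj, card_K3]; norm_num
  have hle : K3.map (MulAut.conj : M →* MulAut M) ≤ P3 := by
    rintro _ ⟨h, hh, rfl⟩
    exact conj_mem hh
  have hfin : Finite (MulAut M) := Nat.finite_of_card_ne_zero (by rw [card_aut]; norm_num)
  have hlt : 81 < Nat.card P3 := by
    by_contra hc
    have he := Subgroup.eq_of_le_of_card_ge hle (by rw [hQ]; omega)
    have h1 := psi_P3
    rw [← he] at h1
    obtain ⟨g, hg, e⟩ := h1
    exact psi_ne hg e.symm
  obtain ⟨k, hk⟩ := IsPGroup.iff_card.1 isPGroup_P3
  have hk5 : 5 ≤ k := by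
    by_contra hc
    have h1 : 3 ^ k ≤ 3 ^ 4 := Nat.pow_le_pow_right (by norm_num) (by omega)
    rw [hk] at hlt
    norm_num at h1
    omega
  intro hd
  have h1 := P3.index_mul_card
  have h2 : 3 ^ 5 ∣ Nat.card P3 := hk ▸ pow_dvd_pow 3 hk5
  have h3 : 3 * 3 ^ 5 ∣ Nat.card (MulAut M) := h1 ▸ Nat.mul_dvd_mul hd h2
  rw [card_aut] at h3
  norm_num at h3

theorem outer_case {h : M} (hh : h ∈ K3)
    (hx : MulAut.conj (wm [4]) * (MulAut.conj h * psi) * (MulAut.conj (wm [4]))⁻¹ ∈ P3) : False := by
  have hy : MulAut.conj h * psi ∈ P3 := P3.mul_mem (conj_mem hh) psi_P3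
  rw [conj_mul_mul_inv] at hx
  have h1 := mem_of_conj ((Subgroup.mul_mem_cancel_right _ hy).1 hx)
  apply outer_part hh
  have h2 : wm [4] * ((MulAut.conj h * psi) (wm [4]))⁻¹ = (wm [4] * h * (psi (wm [4]))⁻¹) * h⁻¹ := by
    rw [MulAut.mul_apply, MulAut.conj_apply]; group
  rw [h2] at h1
  exact (Subgroup.mul_mem_cancel_right _ (K3.inv_mem hh)).1 h1

theorem meet_M : Meet 3 M := by
  have : Fact (Nat.Prime 3) := ⟨Nat.prime_three⟩
  refine meet_of_index P3 isPGroup_P3 index_P3 ⟨wm [4], ?_⟩
  rintro y ⟨h, hh, i, rfl⟩ hx
  have hpow : psi ^ i = psi ^ (i % 3) := by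
    conv_lhs => rw [← Nat.div_add_mod i 3, pow_add, psi_pow3, one_mul]
  rw [hpow] at hx ⊢
  have h3 : i % 3 = 0 ∨ i % 3 = 1 ∨ i % 3 = 2 := by omega
  rcases h3 with h3 | h3 | h3
  · simp only [h3, pow_zero, mul_one] at hx ⊢
    rw [← map_mul, ← map_inv, ← map_mul] at hx
    rw [inner_part hh (mem_of_conj hx), map_one]
  · simp only [h3, pow_one] at hx
    exact (outer_case hh hx).elim
  · exfalso
    rw [h3] at hx
    have h4 := P3.mul_mem hx hx
    have h5 : MulAut.conj (wm [4]) * (MulAut.conj h * psi ^ 2) * (MulAut.conj (wm [4]))⁻¹ *
        (MulAut.conj (wm [4]) * (MulAut.conj h * psi ^ 2) * (MulAut.conj (wm [4]))⁻¹) =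
        MulAut.conj (wm [4]) * (MulAut.conj (h * (psi ^ 2) h) * psi) * (MulAut.conj (wm [4]))⁻¹ := by
      have h6 := mul_form h h 2 2
      have h7 : psi ^ (2 + 2) = psi := by
        rw [show 2 + 2 = 3 + 1 from rfl, pow_succ, psi3, one_mul]
      rw [h7] at h6
      simp only [← h6]; group
    rw [h5] at h4
    exact outer_case (K3.mul_mem hh (psi_pow_mem hh 2)) h4

/-- Every 3-subgroup of the automorphism group of `³D₄(2)` meets a conjugate of itself trivially. -/
theorem meet3_3D4_two {K : Type*} [Field K] [Fintype K] (hK : Fintype.card K = 8) :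
    Meet 3 ↥(Cfsg.Lie.twistedD4 K 2) := by
  obtain ⟨e⟩ := iso_M K hK
  exact Meet.congr e meet_M

end Cfsg.Agent.H83.MeetTD4
end

private theorem dce_2e77dd37820d : _root_.True := by
  try have : _root_.True := by simp only [_root_.Cfsg.Agent.H379.TD.x.eq_1]
  try have : _root_.True := by simp only [_root_.Cfsg.Agent.H379.TD.x0.eq_1]
  try have : _root_.True := by simp only [_root_.Cfsg.Agent.H379.TD.M.eq_1]
  try have : _root_.True := by simp only [_root_.Cfsg.Agent.H379.TD.wy.eq_1]
  try have : _root_.True := by simp only [_root_.Cfsg.Agent.H379.TD.y.eq_1]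
  try have : _root_.True := by simp only [_root_.Cfsg.Agent.H83.MeetTD4.fw.eq_2]
  try have : _root_.True := by simp only [_root_.Cfsg.Agent.H83.MeetTD4.fw.eq_def]
  try have : _root_.True := by simp only [_root_.Cfsg.Agent.H83.MeetTD4.fw.eq_1]
  try have : _root_.True := by simp only [_root_.Cfsg.Agent.H379.TD.F.eq_1]
  try have : _root_.True := by simp only [_root_.Cfsg.Agent.H379.TD.col.eq_1]
  exact _root_.True.intro
end
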