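import Mathlib
import Cfsg.Agent.FastGrp
import Cfsg.Agent.Prune
set_option linter.all false
prune_inst 0x7f00000000000000000000000000000000000000000000000000000000000000000000000000000000000000000000000000000000000000000000000000000000000000000000000000000000000000003fffffffffffffffffffffffffffbeffbdffffffff
open scoped Cfsg.Agent.FastGrp

/-!
# Automorphisms of a power of a simple group (helper134, for S2484 and S5760)

* `exists_act_pi` : an automorphism of `ι → L` (`L` finite simple, not commutative) permutes the coordinates;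
* `Act ρ y σ α` : the automorphism `y` of `T` acts on the image of `ρ : (ι → L) →* T` by `σ` and `α`;
* `mem_sup_norm`, `card_sup_norm` : `N K` for `K` normalising `N`;
* `norm_of_index` : the Sylow subgroup `P` normalises the abelian subgroup `S` of a subgroup `M` of index `p`.
-/

set_option autoImplicit false

namespace Cfsg.Agent.H134.Syl

section Pi

variable {ι : Type*} [Finite ι] [DecidableEq ι] {L : Type*} [Group L]

/-- a noncommutative simple group has trivial centre: every nontrivial element has a nontrivial commutator -/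
theorem exists_comm_ne [IsSimpleGroup L] (hL : ¬ IsMulCommutative L) {a : L} (ha : a ≠ 1) :
    ∃ h : L, a * h * a⁻¹ * h⁻¹ ≠ 1 := by
  by_contra hcon
  push Not at hcon
  have hc : ∀ h, a * h = h * a := fun h => by
    have h1 := hcon h
    rw [mul_inv_eq_one, mul_inv_eq_iff_eq_mul] at h1
    exact h1
  have hmem : a ∈ Subgroup.center L := Subgroup.mem_center_iff.2 fun g => (hc g).symm
  rcases (inferInstance : (Subgroup.center L).Normal).eq_bot_or_eq_top with h | h
  · rw [h, Subgroup.mem_bot] at hmem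
    exact ha hmem
  · apply hL
    refine ⟨⟨fun x y => ?_⟩⟩
    have hx : x ∈ Subgroup.center L := h ▸ Subgroup.mem_top x
    exact (Subgroup.mem_center_iff.1 hx y).symm

omit [Finite ι] in
theorem comm_single (f : ι → L) (j : ι) (h : L) :
    f * Pi.mulSingle j h * f⁻¹ * (Pi.mulSingle j h)⁻¹ = Pi.mulSingle j (f j * h * (f j)⁻¹ * h⁻¹) := by
  ext k
  by_cases hk : k = j
  · subst hk
    simp
  · simp [hk]

/-- **Automorphisms of a power of a simple group.** -/
theorem exists_act_pi [Finite L] [IsSimpleGroup L] (hL : ¬ IsMulCommutative L) (η : MulAut (ι → L)) :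
    ∃ (σ : Equiv.Perm ι) (α : ι → MulAut L), ∀ f j, η f j = α j (f (σ.symm j)) := by
  classical
  have := Fintype.ofFinite ι
  -- the coordinates of `η (single i g)`
  let p : ι → ι → (L →* L) := fun i k =>
    (Pi.evalMonoidHom (fun _ : ι => L) k).comp (η.toMonoidHom.comp (MonoidHom.mulSingle (fun _ : ι => L) i))
  have hp : ∀ i k g, p i k g = η (Pi.mulSingle i g) k := fun i k g => rfl
  -- normality
  have hnorm : ∀ i (g : L) (f : ι → L), ∃ g', f * η (Pi.mulSingle i g) * f⁻¹ = η (Pi.mulSingle i g') := by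
    intro i g f
    obtain ⟨e, rfl⟩ := η.surjective f
    refine ⟨e i * g * (e i)⁻¹, ?_⟩
    rw [← map_mul, ← map_inv, ← map_mul]
    congr 1
    ext k
    by_cases hk : k = i
    · subst hk
      simp
    · simp [hk]
  have key : ∀ i j k, j ≠ k → p i j ≠ 1 → p i k = 1 := by
    intro i j k hjk hj
    by_contra hk
    obtain ⟨g, hg⟩ : ∃ g, p i j g ≠ 1 := by
      by_contra hcon
      push Not at hcon
      exact hj (MonoidHom.ext hcon)
    obtain ⟨h, hh⟩ := exists_comm_ne hL hg
    -- the commutator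
    obtain ⟨g1, hg1⟩ := hnorm i g⁻¹ (Pi.mulSingle j h)
    have e1 : η (Pi.mulSingle i (g * g1)) = Pi.mulSingle j (p i j g * h * (p i j g)⁻¹ * h⁻¹) := by
      rw [hp, ← comm_single (η (Pi.mulSingle i g)) j h, Pi.mulSingle_mul, map_mul, ← hg1, Pi.mulSingle_inv, map_inv]
      group
    have hne : g * g1 ≠ 1 := by
      intro h1
      rw [h1, Pi.mulSingle_one, map_one] at e1
      apply hh
      have := congrFun e1 j
      simpa using this.symm
    have hker : g * g1 ∈ (p i k).ker := by
      rw [MonoidHom.mem_ker, hp, e1]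
      simp [hjk.symm]
    rcases (inferInstance : (p i k).ker.Normal).eq_bot_or_eq_top with h1 | h1
    · rw [h1, Subgroup.mem_bot] at hker
      exact hne hker
    · apply hk
      ext g
      have : g ∈ (p i k).ker := h1 ▸ Subgroup.mem_top g
      exact this
  have hex : ∀ i, ∃ j, p i j ≠ 1 := by
    intro i
    by_contra hcon
    push Not at hcon
    obtain ⟨g, hg⟩ := exists_ne (1 : L)
    apply hg
    have h1 : η (Pi.mulSingle i g) = 1 := by
      ext k
      rw [← hp, hcon]
      rfl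
    have h2 : (Pi.mulSingle i g : ι → L) = 1 := η.injective (by rw [h1, map_one])
    have := congrFun h2 i
    simpa using this
  choose τ hτ using hex
  have hsingle : ∀ i g, η (Pi.mulSingle i g) = Pi.mulSingle (τ i) (p i (τ i) g) := by
    intro i g
    ext k
    by_cases hk : k = τ i
    · subst hk
      rw [Pi.mulSingle_eq_same]
      rfl
    · rw [Pi.mulSingle_eq_of_ne hk, ← hp, key i (τ i) k (Ne.symm hk) (hτ i)]
      rfl
  have hinj : ∀ i, Function.Injective (p i (τ i)) := by
    intro i a b hab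
    have h1 : η (Pi.mulSingle i a) = η (Pi.mulSingle i b) := by rw [hsingle, hsingle, hab]
    exact Pi.mulSingle_injective i (η.injective h1)
  have hsurj : ∀ i, Function.Surjective (p i (τ i)) := fun i => Finite.injective_iff_surjective.1 (hinj i)
  have hτinj : Function.Injective τ := by
    intro i i' hii
    by_contra hne
    apply hL
    refine ⟨⟨fun a b => ?_⟩⟩
    obtain ⟨a', rfl⟩ := hsurj i a
    obtain ⟨b', rfl⟩ := hsurj i' (b : L)
    have h1 : (Pi.mulSingle i a' : ι → L) * Pi.mulSingle i' b' = Pi.mulSingle i' b' * Pi.mulSingle i a' :=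
      (Pi.mulSingle_commute (f := fun _ : ι => L) hne a' b').eq
    have h2 := congrArg η h1
    rw [map_mul, map_mul, hsingle, hsingle, ← hii] at h2
    have h3 := congrFun h2 (τ i)
    simpa [hii] using h3
  let σ : Equiv.Perm ι := Equiv.ofBijective τ (Finite.injective_iff_bijective.1 hτinj)
  let α : ι → MulAut L := fun j => MulEquiv.ofBijective (p (σ.symm j) j) (by
    have h1 : τ (σ.symm j) = j := σ.apply_symm_apply j
    have h2 := hinj (σ.symm j)
    have h3 := hsurj (σ.symm j)
    rw [h1] at h2 h3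
    exact ⟨h2, h3⟩)
  refine ⟨σ, α, ?_⟩
  have hext : η.toMonoidHom = MonoidHom.mk' (fun f j => α j (f (σ.symm j))) (by
      intro f g
      ext j
      simp) := by
    apply MonoidHom.pi_ext
    intro i g
    change η (Pi.mulSingle i g) = fun j => α j ((Pi.mulSingle i g : ι → L) (σ.symm j))
    rw [hsingle]
    ext j
    by_cases hj : j = τ i
    · subst hj
      have h1 : σ.symm (τ i) = i := σ.symm_apply_apply i
      have h2 : ∀ (i' : ι) (_ : i' = i), p i (τ i) g = p i' (τ i) ((Pi.mulSingle i g : ι → L) i') := by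
        rintro i' rfl
        rw [Pi.mulSingle_eq_same]
      rw [Pi.mulSingle_eq_same]
      exact h2 _ h1
    · have h1 : σ.symm j ≠ i := by
        intro h
        apply hj
        rw [← h]
        exact (σ.apply_symm_apply j).symm
      rw [Pi.mulSingle_eq_of_ne hj, Pi.mulSingle_eq_of_ne h1, map_one]
  intro f j
  exact congrFun (DFunLike.congr_fun hext f) j

omit [Finite ι] in
/-- the homomorphism `ρ` is injective on the product if it is injective on the factors -/
theorem injective_of_single {T : Type*} [Group T] [IsSimpleGroup L] (hL : ¬ IsMulCommutative L)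
    (ρ : (ι → L) →* T) (h : ∀ i, Function.Injective fun g : L => ρ (Pi.mulSingle i g)) : Function.Injective ρ := by
  rw [injective_iff_map_eq_one]
  intro f hf
  by_contra hne
  obtain ⟨j, hj⟩ : ∃ j, f j ≠ 1 := by
    by_contra hcon
    push Not at hcon
    exact hne (funext hcon)
  obtain ⟨g, hg⟩ := exists_comm_ne hL hj
  apply hg
  apply h j
  change ρ _ = ρ _
  rw [← comm_single, Pi.mulSingle_one, map_one, map_mul, map_mul, map_mul, map_inv, hf, map_inv]
  group

end Pi

section Act

variable {ι : Type*} [Finite ι] [DecidableEq ι] {L : Type*} [Group L] {T : Type*} [Group T] (ρ : (ι → L) →* T)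

/-- `y` acts on the image of `ρ` by `σ` and `α` -/
def Act (y : MulAut T) (σ : Equiv.Perm ι) (α : ι → MulAut L) : Prop :=
  ∀ f, y (ρ f) = ρ fun j => α j (f (σ.symm j))

variable {ρ}

omit [Finite ι] [DecidableEq ι] in
theorem Act.one : Act ρ 1 1 1 := fun _ => rfl

omit [Finite ι] [DecidableEq ι] in
theorem Act.mul {y y' : MulAut T} {σ σ' : Equiv.Perm ι} {α α' : ι → MulAut L} (h : Act ρ y σ α) (h' : Act ρ y' σ' α') :
    Act ρ (y * y') (σ * σ') fun j => α j * α' (σ.symm j) := by
  intro f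
  rw [MulAut.mul_apply, h', h]
  rfl

omit [Finite ι] [DecidableEq ι] in
theorem Act.conj (x : ι → L) : Act ρ (MulAut.conj (ρ x)) 1 fun j => MulAut.conj (x j) := by
  intro f
  rw [MulAut.conj_apply, ← map_mul, ← map_inv, ← map_mul]
  rfl

omit [Finite ι] in
theorem Act.unique (hρ : Function.Injective ρ) [Nontrivial L] {y : MulAut T} {σ σ' : Equiv.Perm ι} {α α' : ι → MulAut L}
    (h : Act ρ y σ α) (h' : Act ρ y σ' α') : σ = σ' ∧ α = α' := by
  have h1 : ∀ f : ι → L, ∀ j, α j (f (σ.symm j)) = α' j (f (σ'.symm j)) := fun f =>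
    congrFun (hρ ((h f).symm.trans (h' f)))
  have h2 : σ = σ' := by
    obtain ⟨g, hg⟩ := exists_ne (1 : L)
    have h3 : σ.symm = σ'.symm := by
      ext j
      by_contra hne
      have h4 := h1 (Pi.mulSingle (σ.symm j) g) j
      rw [Pi.mulSingle_eq_same, Pi.mulSingle_eq_of_ne (Ne.symm hne), map_one] at h4
      exact hg ((α j).injective (h4.trans (map_one _).symm))
    exact Equiv.symm_bijective.injective h3
  subst h2
  refine ⟨rfl, ?_⟩
  ext j g
  have := h1 (fun _ => g) j
  exact this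

omit [Finite ι] [DecidableEq ι] in
theorem Act.pow {y : MulAut T} {σ : Equiv.Perm ι} {α : ι → MulAut L} (h : Act ρ y σ α) (n : ℕ) :
    ∃ β, Act ρ (y ^ n) (σ ^ n) β := by
  induction n with
  | zero => exact ⟨1, by simpa using Act.one⟩
  | succ n ih =>
    obtain ⟨β, hβ⟩ := ih
    rw [pow_succ, pow_succ]
    exact ⟨_, hβ.mul h⟩

omit [Finite ι] [DecidableEq ι] in
theorem Act.pow_one {y : MulAut T} {α : ι → MulAut L} (h : Act ρ y 1 α) (n : ℕ) : Act ρ (y ^ n) 1 (α ^ n) := by
  induction n with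
  | zero => simpa using Act.one
  | succ n ih =>
    rw [pow_succ, pow_succ]
    exact ih.mul h

omit [Finite ι] [DecidableEq ι] in
theorem Act.inv_one {y : MulAut T} {α : ι → MulAut L} (h : Act ρ y 1 α) : Act ρ y⁻¹ 1 α⁻¹ := by
  intro f
  apply y.injective
  rw [MulAut.apply_inv_self, h]
  congr 1
  ext j
  exact (MulAut.apply_inv_self _ (α j) (f j)).symm

omit [Finite ι] in
theorem Act.perm_pow_eq_one (hρ : Function.Injective ρ) [Nontrivial L] {y : MulAut T} {σ : Equiv.Perm ι}
    {α : ι → MulAut L} (h : Act ρ y σ α) {n : ℕ} (hn : y ^ n = 1) : σ ^ n = 1 := by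
  obtain ⟨β, hβ⟩ := h.pow n
  rw [hn] at hβ
  exact (hβ.unique hρ Act.one).1

/-- an automorphism which preserves the image of `ρ` acts on it by some `σ`, `α` -/
theorem exists_act [Finite L] [IsSimpleGroup L] (hL : ¬ IsMulCommutative L) (hρ : Function.Injective ρ) {y : MulAut T}
    (hy : ∀ f, ∃ f', y (ρ f) = ρ f') : ∃ σ α, Act ρ y σ α := by
  choose η hη using hy
  have hmul : ∀ f g, η (f * g) = η f * η g := fun f g => hρ (by rw [← hη, map_mul, map_mul, hη, hη, map_mul])
  have hinj : Function.Injective η := by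
    intro f g hfg
    apply hρ
    apply y.injective
    rw [hη, hη, hfg]
  let e : MulAut (ι → L) := MulEquiv.ofBijective (MonoidHom.mk' η hmul) (Finite.injective_iff_bijective.1 hinj)
  obtain ⟨σ, α, h⟩ := exists_act_pi hL e
  refine ⟨σ, α, fun f => ?_⟩
  rw [hη]
  congr 1
  ext j
  exact h f j

end Act

/-! ### products -/

section Sup

variable {A : Type*} [Group A]

theorem mem_sup_norm {N K : Subgroup A} (h : ∀ k ∈ K, ∀ n ∈ N, k * n * k⁻¹ ∈ N) {x : A} :
    x ∈ N ⊔ K ↔ ∃ n ∈ N, ∃ k ∈ K, x = n * k := by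
  constructor
  · let U : Subgroup A :=
      { carrier := {x | ∃ n ∈ N, ∃ k ∈ K, x = n * k}
        one_mem' := ⟨1, N.one_mem, 1, K.one_mem, by simp⟩
        mul_mem' := by
          rintro _ _ ⟨n, hn, k, hk, rfl⟩ ⟨n', hn', k', hk', rfl⟩
          refine ⟨n * (k * n' * k⁻¹), N.mul_mem hn (h k hk _ hn'), k * k', K.mul_mem hk hk', ?_⟩
          group
        inv_mem' := by
          rintro _ ⟨n, hn, k, hk, rfl⟩
          refine ⟨k⁻¹ * n⁻¹ * k, ?_, k⁻¹, K.inv_mem hk, by group⟩
          have := h k⁻¹ (K.inv_mem hk) _ (N.inv_mem hn)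
          rwa [inv_inv] at this }
    have hle : N ⊔ K ≤ U := sup_le (fun n hn => ⟨n, hn, 1, K.one_mem, by simp⟩)
      (fun k hk => ⟨1, N.one_mem, k, hk, by simp⟩)
    exact fun hx => hle hx
  · rintro ⟨n, hn, k, hk, rfl⟩
    exact Subgroup.mul_mem _ (Subgroup.mem_sup_left hn) (Subgroup.mem_sup_right hk)

theorem card_sup_norm {N K : Subgroup A} (h : ∀ k ∈ K, ∀ n ∈ N, k * n * k⁻¹ ∈ N) (hd : ∀ x ∈ N, x ∈ K → x = 1) :
    Nat.card ↥(N ⊔ K) = Nat.card N * Nat.card K := by
  rw [← Nat.card_prod]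
  symm
  refine Nat.card_congr (Equiv.ofBijective (fun p : N × K => (⟨p.1 * p.2, Subgroup.mul_mem _
    (Subgroup.mem_sup_left p.1.2) (Subgroup.mem_sup_right p.2.2)⟩ : ↥(N ⊔ K))) ⟨?_, ?_⟩)
  · rintro ⟨⟨n, hn⟩, ⟨k, hk⟩⟩ ⟨⟨n', hn'⟩, ⟨k', hk'⟩⟩ he
    have h1 : n * k = n' * k' := congrArg Subtype.val he
    have h2 : n'⁻¹ * n = k' * k⁻¹ := by
      rw [inv_mul_eq_iff_eq_mul, ← mul_assoc, ← h1]; group
    have h3 : n'⁻¹ * n = 1 := hd _ (N.mul_mem (N.inv_mem hn') hn) (h2 ▸ K.mul_mem hk' (K.inv_mem hk))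
    have h4 : n = n' := (inv_mul_eq_one.1 h3).symm
    subst h4
    have h5 : k = k' := mul_left_cancel h1
    subst h5
    rfl
  · rintro ⟨x, hx⟩
    obtain ⟨n, hn, k, hk, rfl⟩ := (mem_sup_norm h).1 hx
    exact ⟨⟨⟨n, hn⟩, ⟨k, hk⟩⟩, rfl⟩

/-- `|H| |K| ≤ |G| |H ∩ K|` for subgroups of `G` -/
theorem card_mul_le {G : Type*} [Group G] [Finite G] (H K : Subgroup G) :
    Nat.card H * Nat.card K ≤ Nat.card G * Nat.card ↥(H ⊓ K) := by
  have h1 : H.index * Nat.card H = Nat.card G := H.index_mul_card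
  have h2 : H.relIndex K ≤ H.index := by
    rw [← Subgroup.relIndex_top_right]
    exact Subgroup.relIndex_le_of_le_right le_top (by rw [Subgroup.relIndex_top_right]; exact H.index_ne_zero_of_finite)
  have h3 : (H.relIndex K) * Nat.card ↥(H ⊓ K) = Nat.card K := by
    have h4 := ((H.subgroupOf K)).index_mul_card
    rw [← h4]
    congr 1
    have h5 : H.subgroupOf K = (H ⊓ K).subgroupOf K := by simp
    rw [h5]
    exact (Nat.card_congr (Subgroup.subgroupOfEquivOfLe inf_le_right).toEquiv).symm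
  calc Nat.card H * Nat.card K = Nat.card H * (H.relIndex K * Nat.card ↥(H ⊓ K)) := by rw [h3]
    _ ≤ Nat.card H * (H.index * Nat.card ↥(H ⊓ K)) := by gcongr
    _ = _ := by rw [← h1]; ring

/-- the same inside a subgroup -/
theorem card_mul_le' [Finite A] {M H K : Subgroup A} (hH : H ≤ M) (hK : K ≤ M) :
    Nat.card H * Nat.card K ≤ Nat.card M * Nat.card ↥(H ⊓ K) := by
  have h := card_mul_le (H.subgroupOf M) (K.subgroupOf M)
  have e : H.subgroupOf M ⊓ K.subgroupOf M = (H ⊓ K).subgroupOf M := rfl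
  rwa [Nat.card_congr (Subgroup.subgroupOfEquivOfLe hH).toEquiv, Nat.card_congr (Subgroup.subgroupOfEquivOfLe hK).toEquiv,
    e, Nat.card_congr (Subgroup.subgroupOfEquivOfLe (inf_le_left.trans hH)).toEquiv] at h

/-- `P` normalises the abelian subgroup `S` of the normal subgroup `M` of `P` if centralisers in `S` are small. -/
theorem norm_of_fix [Finite A] {P M S : Subgroup A} (hSM : S ≤ M) (hMn : ∀ y ∈ P, ∀ m ∈ M, y * m * y⁻¹ ∈ M)
    (hc : ∀ a ∈ S, ∀ b ∈ S, a * b = b * a) {k : ℕ}
    (hfix : ∀ m ∈ M, m ∉ S → Nat.card {s // s ∈ S ∧ m * s = s * m} ≤ k) (hk : Nat.card M * k < Nat.card S ^ 2) :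
    ∀ y ∈ P, ∀ s ∈ S, y * s * y⁻¹ ∈ S := by
  intro y hy s₀ hs₀
  by_contra hne
  let S' : Subgroup A := S.map (MulAut.conj y).toMonoidHom
  have hS' : ∀ x, x ∈ S' ↔ ∃ s ∈ S, y * s * y⁻¹ = x := fun x => Subgroup.mem_map
  have hS'M : S' ≤ M := by
    intro x hx
    obtain ⟨s, hs, rfl⟩ := (hS' x).1 hx
    exact hMn y hy s (hSM hs)
  have hcard : Nat.card S' = Nat.card S :=
    (Nat.card_congr (S.equivMapOfInjective (MulAut.conj y).toMonoidHom (MulAut.conj y).injective).toEquiv).symm
  have h1 := card_mul_le' hSM hS'M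
  rw [hcard] at h1
  have h2 : Nat.card ↥(S ⊓ S') ≤ k := by
    refine le_trans ?_ (hfix _ (hMn y hy _ (hSM hs₀)) hne)
    have : Finite {s // s ∈ S ∧ y * s₀ * y⁻¹ * s = s * (y * s₀ * y⁻¹)} := Subtype.finite
    refine Nat.card_le_card_of_injective (fun x : ↥(S ⊓ S') => (⟨x.1, x.2.1, ?_⟩ : {s // s ∈ S ∧ y * s₀ * y⁻¹ * s = s * (y * s₀ * y⁻¹)})) ?_
    · obtain ⟨s, hs, he⟩ := (hS' _).1 x.2.2
      rw [← he]
      have := hc s₀ hs₀ s hs
      calc y * s₀ * y⁻¹ * (y * s * y⁻¹) = y * (s₀ * s) * y⁻¹ := by group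
        _ = y * (s * s₀) * y⁻¹ := by rw [this]
        _ = _ := by group
    · intro a b hab
      exact Subtype.ext (congrArg (fun z : {s // s ∈ S ∧ y * s₀ * y⁻¹ * s = s * (y * s₀ * y⁻¹)} => (z : A)) hab)
  have h3 : Nat.card M * Nat.card ↥(S ⊓ S') ≤ Nat.card M * k := Nat.mul_le_mul_left _ h2
  rw [sq] at hk
  omega

/-- a subgroup of index `p` of a finite `p`-group is normal -/
theorem norm_of_card [Finite A] {p : ℕ} [hp : Fact p.Prime] {P M : Subgroup A} (hP : IsPGroup p P) (hMP : M ≤ P)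
    (h : Nat.card P = p * Nat.card M) : ∀ y ∈ P, ∀ m ∈ M, y * m * y⁻¹ ∈ M := by
  have hpos : 0 < Nat.card M := Nat.card_pos
  have hi : (M.subgroupOf P).index = p := by
    have h1 := (M.subgroupOf P).index_mul_card
    rw [Nat.card_congr (Subgroup.subgroupOfEquivOfLe hMP).toEquiv, h] at h1
    exact Nat.eq_of_mul_eq_mul_right hpos h1
  have hn : (M.subgroupOf P).Normal := by
    obtain ⟨n, hn⟩ := hP.exists_card_eq
    apply Subgroup.normal_of_index_eq_minFac_card
    rw [hi, hn]
    rcases Nat.eq_zero_or_pos n with h0 | h0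
    · subst h0
      rw [pow_zero] at hn
      rw [hn] at h
      have := Nat.le_mul_of_pos_right p hpos
      have := hp.out.two_le
      omega
    · rw [Nat.Prime.pow_minFac hp.out h0.ne']
  intro y hy m hm
  exact hn.conj_mem ⟨m, hMP hm⟩ hm ⟨y, hy⟩

end Sup

end Cfsg.Agent.H134.Syl
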